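import Groth.Agent.Lib.FunFld.RR
import Groth.Agent.Lib.FunFld.Conseq
import Mathlib.LinearAlgebra.QuadraticForm.Basic
import Mathlib.LinearAlgebra.Matrix.BilinearForm
import Mathlib.FieldTheory.Separable
import Mathlib.RingTheory.UniqueFactorizationDomain.Multiplicity

/-!
# Diagonal conic coordinates on a function field of genus zero
-/

set_option linter.style.haveILetI false

open Polynomial IntermediateField

namespace GrothLib.EssDim

open _root_.FunFld

universe u
variable {k K : Type u} [Field k] [CharZero k] [Field K] [Algebra k K]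

/-- `a X² + 1` is not a square in `k(X)` up to a constant. -/
theorem conic_no_rational_sqrt {a b : k} (ha : a ≠ 0) (hb : b ≠ 0) (p q : k[X]) (hq : q ≠ 0)
    (h : (C a * X ^ 2 + 1) * q ^ 2 = -(C b * p ^ 2)) : False := by
  classical
  have hh : (C a * X ^ 2 + 1 : k[X]).natDegree = 2 := by compute_degree!
  have hsep : (C a * X ^ 2 + 1 : k[X]).Separable := by
    refine ⟨1, -(C (2⁻¹ : k) * X), ?_⟩
    have h2 : C (2⁻¹ : k) * C 2 = 1 := by
      rw [← map_mul, inv_mul_cancel₀ two_ne_zero, map_one]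
    simp [derivative_pow]
    linear_combination (-(C a * X ^ 2)) * h2
  have hu : IsUnit (-C b) := (isUnit_C.2 (isUnit_iff_ne_zero.2 hb)).neg
  have hd : q ^ 2 ∣ p ^ 2 := by
    have : q ^ 2 ∣ (-C b) * p ^ 2 := ⟨C a * X ^ 2 + 1, by rw [neg_mul, ← h]; ring⟩
    exact hu.dvd_mul_left.1 this
  obtain ⟨r, rfl⟩ := (UniqueFactorizationMonoid.pow_dvd_pow_iff_dvd two_ne_zero).1 hd
  have h' : C a * X ^ 2 + 1 = -C b * r ^ 2 := mul_right_cancel₀ (pow_ne_zero 2 hq) (by rw [h]; ring)
  have hr : IsUnit r := hsep.squarefree r ⟨-C b, by rw [h']; ring⟩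
  have : (C a * X ^ 2 + 1 : k[X]).natDegree = 0 := by
    rw [h']
    exact natDegree_eq_zero_of_isUnit (hu.mul (hr.pow 2))
  omega

set_option maxHeartbeats 1000000 in
/-- A quadratic relation among three independent functions diagonalises. -/
theorem exists_diag_relation {V : Submodule k K} (v : Module.Basis (Fin 3) k V)
    (W : Submodule k K) [Module.Finite k W] (hW : Module.finrank k W ≤ 5)
    (hprod : ∀ i j, (v i : K) * v j ∈ W) (halg : ∀ x : K, IsAlgebraic k x → x ∈ Set.range (algebraMap k K)) :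
    ∃ (w : Fin 3 → K) (d : Fin 3 → k), (∀ l, w l ∈ V) ∧ (∀ l, w l ≠ 0) ∧ (∀ l, d l ≠ 0) ∧
      ∑ l, d l • w l ^ 2 = 0 ∧ ∀ l m, l ≠ m → Transcendental k (w l / w m) := by
  classical
  let I : Type := {p : Fin 3 × Fin 3 // p.1 ≤ p.2}
  obtain ⟨c, hc, i₀, hi₀⟩ : ∃ c : I → k, ∑ p : I, c p • ((v p.1.1 : K) * v p.1.2) = 0 ∧ ∃ p, c p ≠ 0 := by
    have hni : ¬ LinearIndependent k (fun p : I => (⟨_, hprod p.1.1 p.1.2⟩ : W)) := fun hli => by
      have h1 := hli.fintype_card_le_finrank
      rw [show Fintype.card I = 6 by decide] at h1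
      omega
    obtain ⟨c, hc, hne⟩ := Fintype.not_linearIndependent_iff.1 hni
    refine ⟨c, ?_, hne⟩
    have := congrArg (Subtype.val) hc
    simpa using this
  let M : Matrix (Fin 3) (Fin 3) k := fun i j =>
    (if hij : i ≤ j then c ⟨(i, j), hij⟩ else 0) + (if hji : j ≤ i then c ⟨(j, i), hji⟩ else 0)
  let B : LinearMap.BilinForm k (Fin 3 → k) := Matrix.toBilin' M
  have hBe : ∀ i j, B (Pi.single i 1) (Pi.single j 1) = M i j := fun i j => Matrix.toBilin'_single M i j
  have hB : LinearMap.IsSymm B := by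
    refine ⟨fun x y => ?_⟩
    show B x y = B y x
    simp only [B, Matrix.toBilin'_apply]
    rw [Finset.sum_comm]
    refine Finset.sum_congr rfl fun i _ => Finset.sum_congr rfl fun j _ => ?_
    rw [show M j i = M i j from add_comm _ _]; ring
  haveI : Invertible (2 : k) := invertibleOfNonzero two_ne_zero
  obtain ⟨e₀, he₀⟩ := LinearMap.BilinForm.exists_orthogonal_basis (B := B) hB
  let e : Module.Basis (Fin 3) k (Fin 3 → k) := e₀.reindex (finCongr (Module.finrank_fin_fun k))
  have he : ∀ l m, l ≠ m → B (e l) (e m) = 0 := fun l m hlm => by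
    simp only [e, Module.Basis.reindex_apply]
    exact he₀ fun hh => hlm ((finCongr _).symm.injective hh)
  let d : Fin 3 → k := fun l => B (e l) (e l)
  let R : Fin 3 → Fin 3 → k := fun i l => e.repr (Pi.single i 1) l
  have hM : ∀ i j, M i j = ∑ l, R i l * R j l * d l := fun i j => by
    rw [← hBe i j]
    conv_lhs => rw [← e.sum_repr (Pi.single i 1), ← e.sum_repr (Pi.single j 1)]
    simp only [map_sum, map_smul, LinearMap.coe_sum, Finset.sum_apply, LinearMap.smul_apply, smul_eq_mul]
    refine Finset.sum_congr rfl fun l _ => ?_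
    rw [Finset.sum_eq_single l]
    · simp only [R, d]; ring
    · intro m _ hm; simp [he m l hm, he l m (Ne.symm hm)]
    · simp
  let w : Fin 3 → K := fun l => ∑ i, R i l • (v i : K)
  have hw : ∀ l, w l ∈ V := fun l => Submodule.sum_mem _ fun i _ => Submodule.smul_mem _ _ (v i).2
  have hrel : ∑ l, d l • w l ^ 2 = 0 := by
    have h1 : ∑ i, ∑ j, M i j • ((v i : K) * v j) = 0 := by
      have h2 : ∑ i, ∑ j, M i j • ((v i : K) * v j) = 2 * ∑ p : I, c p • ((v p.1.1 : K) * v p.1.2) := by
        rw [Fintype.sum_congr (fun p : I => c p • ((v p.1.1 : K) * v p.1.2))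
          (fun p => (fun q : Fin 3 × Fin 3 => if hq : q.1 ≤ q.2 then c ⟨q, hq⟩ • ((v q.1 : K) * v q.2) else 0) p.1)
          (fun p => by simp [dif_pos p.2]),
          ← Finset.sum_subtype (Finset.univ.filter fun q : Fin 3 × Fin 3 => q.1 ≤ q.2) (by simp)
            (fun q : Fin 3 × Fin 3 => if hq : q.1 ≤ q.2 then c ⟨q, hq⟩ • ((v q.1 : K) * v q.2) else 0),
          Finset.sum_filter, Fintype.sum_prod_type]
        simp only [Fin.sum_univ_three, M]
        simp [add_smul, Algebra.smul_def]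
        ring
      rw [h2, hc, mul_zero]
    rw [← h1]
    simp only [hM, w, Fin.sum_univ_three, Algebra.smul_def, map_add, map_mul]
    ring
  have hwi : LinearIndependent k w := by
    refine Fintype.linearIndependent_iff.2 fun t ht => ?_
    have h1 : ∑ i, (∑ l, R i l * t l) • (v i : K) = 0 := by
      rw [← ht]
      simp only [w, Fin.sum_univ_three, Algebra.smul_def, map_add, map_mul]
      ring
    have h2 : ∀ i, ∑ l, R i l * t l = 0 :=
      Fintype.linearIndependent_iff.1 (v.linearIndependent.map' (V).subtype (Submodule.ker_subtype _)) _ h1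
    let φ : (Fin 3 → k) →ₗ[k] k := e.constr k t
    have h3 : φ = 0 := by
      refine (Pi.basisFun k (Fin 3)).ext fun i => ?_
      rw [LinearMap.zero_apply, ← h2 i, Pi.basisFun_apply]
      simp [φ, Module.Basis.constr_apply_fintype, R]
    intro l
    have h4 := LinearMap.congr_fun h3 (e l)
    simpa [φ] using h4
  have hw0 : ∀ l, w l ≠ 0 := hwi.ne_zero
  have hratio : ∀ l m, l ≠ m → Transcendental k (w l / w m) := fun l m hlm halg' => by
    obtain ⟨r, hr⟩ := halg _ halg'
    have h1 : w l = r • w m := by rw [Algebra.smul_def, hr, div_mul_cancel₀ _ (hw0 m)]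
    have h2 := (linearIndependent_iff'.1 hwi) {l, m} (Pi.single l 1 - r • Pi.single m 1) (by
      rw [Finset.sum_pair hlm]; simp [hlm, Ne.symm hlm, h1]) l (by simp)
    simp [hlm] at h2
  have hd : ∀ l, d l ≠ 0 := by
    have hdne : ∃ l, d l ≠ 0 := by
      by_contra hall
      push Not at hall
      have hMz : M i₀.1.1 i₀.1.2 = 0 := by rw [hM]; simp [hall]
      obtain ⟨⟨i, j⟩, hij⟩ := i₀
      simp only [M, dif_pos hij] at hMz
      by_cases hji : j ≤ i
      · obtain rfl : i = j := le_antisymm hij hji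
        rw [dif_pos hji, ← two_mul] at hMz
        exact hi₀ ((mul_eq_zero.1 hMz).resolve_left two_ne_zero)
      · rw [dif_neg hji, add_zero] at hMz; exact hi₀ hMz
    have key : ∀ l m n : Fin 3, l ≠ m → l ≠ n → m ≠ n → d n = 0 → d l = 0 := fun l m n h1 h2 h3 hn => by
      by_contra hl
      have hs : ∑ i, d i • w i ^ 2 = d l • w l ^ 2 + d m • w m ^ 2 + d n • w n ^ 2 := by
        have : ({l, m, n} : Finset (Fin 3)) = Finset.univ := Finset.eq_univ_of_card _ (by
          rw [Finset.card_insert_of_notMem (by simp [h1, h2]), Finset.card_pair h3]; rfl)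
        rw [← this, Finset.sum_insert (by simp [h1, h2]), Finset.sum_pair h3, add_assoc]
      rw [hrel, hn, zero_smul, add_zero, Algebra.smul_def, Algebra.smul_def] at hs
      by_cases hm : d m = 0
      · rw [hm, map_zero, zero_mul, add_zero] at hs
        exact (mul_ne_zero ((_root_.map_ne_zero _).2 hl) (pow_ne_zero 2 (hw0 l))) hs.symm
      · refine hratio l m h1 ⟨Polynomial.C (d l) * Polynomial.X ^ 2 + Polynomial.C (d m), fun h0 => hl ?_, ?_⟩
        · have := congrArg (fun p : k[X] => p.coeff 2) h0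
          simpa using this
        · have h4 := hw0 m
          simp only [map_add, map_mul, map_pow, aeval_C, aeval_X]
          field_simp
          linear_combination -hs
    intro l hl
    obtain ⟨l', hl'⟩ := hdne
    have hne : l' ≠ l := fun e => hl' (e ▸ hl)
    obtain ⟨m, hm1, hm2⟩ : ∃ m : Fin 3, m ≠ l' ∧ m ≠ l := by
      revert hne; clear hl hl'; fin_cases l <;> fin_cases l' <;> decide
    exact hl' (key l' m l (Ne.symm hm1) hne hm2 hl)
  exact ⟨w, d, hw, hw0, hd, hrel, hratio⟩

set_option maxHeartbeats 1000000 in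
/-- A function field of genus zero is the function field of a diagonal conic. -/
theorem exists_conic_coords (h : IsFunctionField k K) (hg : genus k K = 0) :
    ∃ (a b : k) (x y : K), a ≠ 0 ∧ b ≠ 0 ∧ Transcendental k x ∧ x ≠ 0 ∧ y ≠ 0 ∧
      algebraMap k K a * x ^ 2 + algebraMap k K b * y ^ 2 + 1 = 0 ∧
      adjoin k ({x, y} : Set K) = ⊤ := by
  classical
  have hfg : GrothLib.FunFld.IsFG k K := h.1
  obtain ⟨C₀, hC₀⟩ := GrothLib.FunFld.exists_isCanonical h
  obtain ⟨hlC₀, hdC₀⟩ := GrothLib.FunFld.ell_canonical h hC₀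
  have hneg : (-C₀).deg = 2 := by
    have h1 : ((0 : Divisor k K) - C₀).deg = 2 := by
      rw [GrothLib.FunFld.deg_sub, GrothLib.FunFld.deg_zero, hdC₀, hg]; norm_num
    rwa [zero_sub] at h1
  have hR := GrothLib.FunFld.riemann_roch' h hC₀ (-C₀)
  obtain ⟨z, hz0, -, hz⟩ := hfg.exists_of_ell_pos (D := -C₀) (by omega)
  obtain ⟨E, hE⟩ : ∃ E, E = -C₀ + div k z := ⟨_, rfl⟩
  rw [← hE] at hz
  have hdE : E.deg = 2 := by rw [hE, GrothLib.FunFld.deg_add, hfg.deg_div, hneg, add_zero]
  have hR2 := GrothLib.FunFld.ell_eq_of_deg_ge h (D := E) (by rw [hdE, hg]; norm_num)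
  rw [hdE, hg] at hR2
  have hl : ell E = 3 := by push_cast at hR2; omega
  have hR4 := GrothLib.FunFld.ell_eq_of_deg_ge h (D := E + E)
    (by rw [GrothLib.FunFld.deg_add, hdE, hg]; norm_num)
  rw [GrothLib.FunFld.deg_add, hdE, hg] at hR4
  have hl2 : ell (E + E) = 5 := by push_cast at hR4; omega
  haveI := hfg.finite_L E
  haveI := hfg.finite_L (E + E)
  let v : Module.Basis (Fin 3) k (L E) := Module.finBasisOfFinrankEq k (L E) hl
  have hprod : ∀ i j, (v i : K) * v j ∈ L (E + E) := fun i j P => by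
    rw [map_mul, Finsupp.add_apply, WithZero.exp_add]
    exact mul_le_mul' ((v i).2 P) ((v j).2 P)
  obtain ⟨w, d, hw, hw0, hd, hrel, hratio⟩ :=
    exists_diag_relation v (L (E + E)) hl2.le hprod (fun x hx => h.2 x hx)
  refine ⟨d 0 / d 2, d 1 / d 2, w 0 / w 2, w 1 / w 2, div_ne_zero (hd 0) (hd 2), div_ne_zero (hd 1) (hd 2),
    hratio 0 2 (by decide), div_ne_zero (hw0 0) (hw0 2), div_ne_zero (hw0 1) (hw0 2), ?_, ?_⟩
  · have h2 : algebraMap k K (d 2) ≠ 0 := (_root_.map_ne_zero _).2 (hd 2)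
    have h3 := hw0 2
    rw [Fin.sum_univ_three, Algebra.smul_def, Algebra.smul_def, Algebra.smul_def] at hrel
    rw [map_div₀, map_div₀]
    field_simp
    linear_combination hrel
  -- generation
  obtain ⟨F, hF⟩ : ∃ F, F = E + div k (w 2) := ⟨_, rfl⟩
  have hwF : ∀ l, w l / w 2 ∈ L F := fun l => by
    rw [hF, ← hfg.mul_mem_L_iff E (hw0 2), mul_div_cancel₀ _ (hw0 2)]
    exact hw l
  have hFpos : ∀ P, (0 : ℤ) ≤ F P := fun P => by
    have h1 := hwF 2 P
    rw [div_self (hw0 2), map_one, ← WithZero.exp_zero, WithZero.exp_le_exp] at h1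
    exact h1
  have hdF : F.deg = 2 := by rw [hF, GrothLib.FunFld.deg_add, hfg.deg_div, hdE, add_zero]
  have hxt := hratio 0 2 (by decide)
  have hle : GrothLib.FunFld.poleDiv (k := k) (w 0 / w 2) ≤ F := fun P => by
    rw [hfg.poleDiv_apply]
    have h1 := hwF 0 P
    rw [GrothLib.FunFld.val_eq P (div_ne_zero (hw0 0) (hw0 2)), WithZero.exp_le_exp] at h1
    have := hFpos P
    omega
  have hdeg : (GrothLib.FunFld.poleDiv (k := k) (w 0 / w 2)).deg ≤ 2 := by
    have := GrothLib.FunFld.deg_nonneg (sub_nonneg.2 hle)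
    rw [GrothLib.FunFld.deg_sub, hdF] at this
    omega
  rw [hfg.deg_poleDiv hxt] at hdeg
  haveI := hfg.finiteDimensional_adjoin hxt
  let A : IntermediateField k K := adjoin k ({w 0 / w 2} : Set K)
  have hyA : w 1 / w 2 ∉ A := fun hy => by
    obtain ⟨p, q, hpq⟩ := (mem_adjoin_simple_iff k _).1 hy
    have hq : aeval (w 0 / w 2) q ≠ 0 := fun hq => by
      rw [hq, div_zero] at hpq
      exact div_ne_zero (hw0 1) (hw0 2) hpq
    refine conic_no_rational_sqrt (a := d 0 / d 2) (b := d 1 / d 2) (div_ne_zero (hd 0) (hd 2))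
      (div_ne_zero (hd 1) (hd 2)) p q (fun h0 => hq (by rw [h0, map_zero])) ?_
    refine transcendental_iff_injective.1 hxt ?_
    simp only [map_mul, map_add, map_pow, map_one, map_neg, aeval_C, aeval_X]
    have hpq' : aeval (w 0 / w 2) p = (w 1 / w 2) * aeval (w 0 / w 2) q := by rw [hpq, div_mul_cancel₀ _ hq]
    rw [hpq', map_div₀, map_div₀]
    rw [Fin.sum_univ_three, Algebra.smul_def, Algebra.smul_def, Algebra.smul_def] at hrel
    have h2 : algebraMap k K (d 2) ≠ 0 := (_root_.map_ne_zero _).2 (hd 2)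
    have h3 := hw0 2
    field_simp
    linear_combination hrel
  let T : IntermediateField A K := adjoin A ({w 1 / w 2} : Set K)
  have hT : 2 ≤ Module.finrank A T := by
    rcases Nat.lt_or_ge (Module.finrank A T) 2 with hlt | hge
    · exfalso
      have hpos : 0 < Module.finrank A T := Module.finrank_pos
      have h1 : T = ⊥ := IntermediateField.finrank_eq_one_iff.1 (by omega)
      have : w 1 / w 2 ∈ T := mem_adjoin_simple_self A _
      rw [h1, IntermediateField.mem_bot] at this
      obtain ⟨⟨t, htA⟩, rfl⟩ := this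
      exact hyA htA
    · exact hge
  have hTtop : T = ⊤ := IntermediateField.eq_of_le_of_finrank_le le_top (by
    rw [IntermediateField.finrank_top']; exact le_trans (by exact_mod_cast hdeg) hT)
  have := adjoin_simple_adjoin_simple k (w 0 / w 2) (w 1 / w 2)
  rw [← this, show k⟮w 0 / w 2⟯⟮w 1 / w 2⟯ = ⊤ from hTtop, restrictScalars_top]

end GrothLib.EssDim
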