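import Groth.Agent.Lib.EssDim.GenusZero
import Groth.Agent.Lib.EssDim.ConicCoord
import Groth.Agent.Lib.CurveMult.WeierEmb
import Groth.Agent.Lib.CurveMult.PlaneNotHyper
import Groth.Agent.Lib.CurveMult.HyperAff
import Groth.Agent.Lib.CurveMult.FFHom
import Groth.Agent.Lib.HypSurf.Chart
import Groth.Agent.Lib.HypSurf.AffSmooth
import Groth.Agent.Lib.ProjSp.OverAffine

/-!
# Curves of genus zero descend to diagonal conics
-/

set_option backward.isDefEq.respectTransparency false
set_option linter.style.haveILetI false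
set_option autoImplicit false

universe u

open CategoryTheory CategoryTheory.Limits AlgebraicGeometry TopologicalSpace MvPolynomial
open GrothLib.CurveRR GrothLib.CurveMult
open GrothLib.Ample (res)

noncomputable section

namespace GrothLib.EssDim.Conic

/-- A proper closed subspace has smaller dimension. -/
theorem topologicalKrullDim_add_one_le {A B : Type*} [TopologicalSpace A] [TopologicalSpace B] [IrreducibleSpace B]
    (j : A → B) (hj : Topology.IsClosedEmbedding j) (hne : Set.range j ≠ Set.univ) {n : ℕ}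
    (hB : topologicalKrullDim B ≤ ((n + 1 : ℕ) : WithBot ℕ∞)) :
    topologicalKrullDim A ≤ (n : WithBot ℕ∞) := by
  refine iSup_le fun l => ?_
  let l' : LTSeries (IrreducibleCloseds B) :=
    l.map (IrreducibleCloseds.map j hj.continuous) (IrreducibleCloseds.map_strictMono_of_isInducing hj.isInducing)
  have hlt : l'.last < ⟨Set.univ, IrreducibleSpace.isIrreducible_univ B, isClosed_univ⟩ := by
    refine lt_of_le_of_ne (fun _ _ => trivial) fun he => hne (Set.eq_univ_of_univ_subset ?_)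
    have h' := congrArg (fun S : IrreducibleCloseds B => (S : Set B)) he
    simp only [l', LTSeries.last_map, IrreducibleCloseds.coe_map] at h'
    refine h'.symm.trans_le ?_
    exact closure_minimal (Set.image_subset_range _ _) hj.isClosed_range
  have h := (Order.LTSeries.length_le_krullDim (l'.snoc _ hlt)).trans hB
  simp [l'] at h
  exact_mod_cast Nat.le_of_succ_le_succ (by exact_mod_cast h)

section Form

variable (F : Type u) [Field F]

/-- The diagonal conic. -/
def form (a b : F) : LefPen.Form 2 F 2 :=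
  ⟨C a * X 0 ^ 2 + C b * X 1 ^ 2 + X 2 ^ 2, (MvPolynomial.mem_homogeneousSubmodule 2 _).2
    ((((isHomogeneous_C _ a).mul ((isHomogeneous_X F 0).pow 2)).add
      ((isHomogeneous_C _ b).mul ((isHomogeneous_X F 1).pow 2))).add ((isHomogeneous_X F 2).pow 2))⟩

variable {F}

theorem diag_ne_zero {α β γ : F} (hγ : γ ≠ 0) :
    (C α * X 0 ^ 2 + C β * X 1 ^ 2 + C γ : MvPolynomial (Fin 2) F) ≠ 0 := fun h => hγ (by
  have h1 := congrArg (eval (fun _ => (0 : F))) h
  simpa using h1)

theorem smooth_diag [CharZero F] {α β γ : F} (hα : α ≠ 0) (hβ : β ≠ 0) (hγ : γ ≠ 0) :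
    Algebra.Smooth F (MvPolynomial (Fin 2) F ⧸ Ideal.span {C α * X 0 ^ 2 + C β * X 1 ^ 2 + C γ}) := by
  refine (HypSurf.smooth_hypersurface_iff _ (diag_ne_zero hγ)).2 fun q hq hgq => ?_
  by_contra hall
  push Not at hall
  have hu : ∀ {c : F}, c ≠ 0 → ∀ i : Fin 2, C c * X i ∈ q → X i ∈ q := fun hc i h =>
    (hq.mem_or_mem h).resolve_left fun h' => hq.ne_top (q.eq_top_of_isUnit_mem h' ((isUnit_iff_ne_zero.2 hc).map C))
  have h0 : X 0 ∈ q := hu (mul_ne_zero two_ne_zero hα) 0 (by
    convert hall 0 using 1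
    simp [pderiv_X_of_ne, map_mul, map_ofNat]
    ring)
  have h1 : X 1 ∈ q := hu (mul_ne_zero two_ne_zero hβ) 1 (by
    convert hall 1 using 1
    simp [pderiv_X_of_ne, map_mul, map_ofNat]
    ring)
  refine hq.ne_top (q.eq_top_of_isUnit_mem ?_ ((isUnit_iff_ne_zero.2 hγ).map C))
  have h2 : C α * X 0 ^ 2 + C β * X 1 ^ 2 ∈ q :=
    q.add_mem (q.mul_mem_left _ (q.pow_mem_of_mem h0 2 two_pos)) (q.mul_mem_left _ (q.pow_mem_of_mem h1 2 two_pos))
  simpa using q.sub_mem hgq h2

theorem exists_subst_form (a b : F) (ha : a ≠ 0) (hb : b ≠ 0) (j : Fin 3) :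
    ∃ α β γ : F, α ≠ 0 ∧ β ≠ 0 ∧ γ ≠ 0 ∧
      HypSurf.subst j (form F a b).1 = C α * X 0 ^ 2 + C β * X 1 ^ 2 + C γ := by
  fin_cases j
  · exact ⟨b, 1, a, hb, one_ne_zero, ha, by
      simp [HypSurf.subst, form]; erw [show (Fin.cons 1 X : Fin 3 → MvPolynomial (Fin 2) F) 2 = X 1 from rfl]; ring⟩
  · refine ⟨a, 1, b, ha, one_ne_zero, hb, ?_⟩
    simp [HypSurf.subst, form, Fin.insertNth, Fin.succAboveCases]
    ring
  · refine ⟨a, b, 1, ha, hb, one_ne_zero, ?_⟩
    simp [HypSurf.subst, form, Fin.insertNth, Fin.succAboveCases]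

theorem form_ne_zero (a b : F) : form F a b ≠ 0 := fun h => by
  have h1 := congrArg (fun G : LefPen.Form 2 F 2 => eval ![(0 : F), 0, 1] G.1) h
  simp [form] at h1

variable (F)

/-- The diagonal conic as a scheme. -/
abbrev curve (a b : F) : Scheme.{u} := (LefPen.hypIdeal (form F a b)).subscheme

/-- Its structure morphism. -/
abbrev str (a b : F) : curve F a b ⟶ Spec (CommRingCat.of F) :=
  (LefPen.hypIdeal (form F a b)).subschemeι ≫ CohB1.ProjSpace.toSpec 2 F

variable {F}

theorem smooth_str [CharZero F] {a b : F} (ha : a ≠ 0) (hb : b ≠ 0) : Smooth (str F a b) := by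
  refine HypSurf.smooth_of_cover (form F a b) (ι := ULift.{u} (Fin 3))
    (fun i => ⟨LefPen.chart 2 F i.down, HypSurf.isAffineOpen_chart i.down⟩) ?_ fun i => ?_
  · refine eq_top_iff.2 fun p _ => ?_
    obtain ⟨i, hi⟩ := Opens.mem_iSup.1 ((Ample.ProjMap.iSup_basicOpen_X 2 F).ge (Opens.mem_top p))
    exact Opens.mem_iSup.2 ⟨⟨i⟩, hi⟩
  · obtain ⟨α, β, γ, hα, hβ, hγ, he⟩ := exists_subst_form a b ha hb i.down
    rw [HypSurf.smooth_chart_iff, he]
    exact smooth_diag hα hβ hγ

theorem isProper_str (a b : F) : IsProper (str F a b) := by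
  haveI := Chow.isProper_toSpec 2 F
  infer_instance

theorem dim_curve_le (a b : F) (ha : a ≠ 0) (hb : b ≠ 0) : topologicalKrullDim (curve F a b) ≤ 1 := by
  haveI : IsIntegral (CohB1.ProjSpace 2 F) := ProjDim.isIntegral_proj F 2
  let j := (LefPen.hypIdeal (form F a b)).subschemeι
  refine topologicalKrullDim_add_one_le j j.isClosedEmbedding (fun hr => ?_) (n := 1)
    (le_of_eq (Groth.Agent.S10829.result F 2))
  haveI : Surjective j := ⟨Set.range_eq_univ.1 hr⟩
  haveI := isIso_of_isClosedImmersion_of_surjective j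
  have hker : LefPen.hypIdeal (form F a b) = ⊥ :=
    ((LefPen.hypIdeal (form F a b)).ker_subschemeι).symm.trans (IsClosedImmersion.isIso_iff_ker_eq_bot.1 inferInstance)
  have h1 := HypSurf.hypIdeal_ideal_eq (form F a b) ⟨LefPen.chart 2 F 2, HypSurf.isAffineOpen_chart 2⟩ 2 le_rfl
  rw [hker, Scheme.IdealSheafData.ideal_bot, Pi.bot_apply, Ample.res_self, eq_comm, Ideal.span_singleton_eq_bot] at h1
  obtain ⟨α, β, γ, -, -, hγ, he⟩ := exists_subst_form a b ha hb 2
  refine diag_ne_zero (α := α) (β := β) hγ (he ▸ (HypSurf.emb_bijective 2).1 ?_)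
  rw [HypSurf.emb_subst, PnMap.χ_form, map_zero]
  exact h1

end Form

section BaseChange

variable {F Ω : Type u} [Field F] [Field Ω]

/-- Base change of a smooth proper curve with constant functions and no first cohomology. -/
theorem baseChange_facts {Y X : Scheme.{u}} (q : Y ⟶ Spec (CommRingCat.of F)) [Smooth q] [IsProper q] [IsIntegral Y]
    (hh : letI : Y.Over (Spec (CommRingCat.of F)) := ⟨q⟩;
      Module.finrank F (Coh.HH Y (Coh.structureModule Y) 0) = 1 ∧ Module.finrank F (Coh.HH Y (Coh.structureModule Y) 1) = 0)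
    (f : F →+* Ω) (i : X ⟶ Y) (p : X ⟶ Spec (CommRingCat.of Ω))
    (H : IsPullback i p q (Spec.map (CommRingCat.ofHom f))) :
    IsIntegral X ∧ topologicalKrullDim X = topologicalKrullDim Y ∧
      (letI : X.Over (Spec (CommRingCat.of Ω)) := ⟨p⟩;
        Module.finrank Ω (Coh.HH X (Coh.structureModule X) 0) = 1 ∧ Curv2.genus Ω X = 0) := by
  letI : Y.Over (Spec (CommRingCat.of F)) := ⟨q⟩
  letI : X.Over (Spec (CommRingCat.of Ω)) := ⟨p⟩
  haveI : IsSeparated (Y ↘ Spec (CommRingCat.of F)) := inferInstanceAs (IsSeparated q)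
  haveI : QuasiCompact (Y ↘ Spec (CommRingCat.of F)) := inferInstanceAs (QuasiCompact q)
  haveI : Smooth p := MorphismProperty.of_isPullback H ‹Smooth q›
  haveI : IsProper p := MorphismProperty.of_isPullback H ‹IsProper q›
  have h0 : Module.finrank Ω (Coh.HH X (Coh.structureModule X) 0) = 1 := by
    rw [CurveMult.finrank_HH_structure_baseChange f i H 0]; exact hh.1
  have h1 : Curv2.genus Ω X = 0 := by
    rw [Euler.genus_def, CurveMult.finrank_HH_structure_baseChange f i H 1]; exact hh.2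
  haveI : ConnectedSpace X := CurveMult.connectedSpace_of_finrank_H0 Ω h0
  haveI hint : IsIntegral X := Euler.isIntegral_of_smooth_connected Ω p
  refine ⟨hint, ?_, h0, h1⟩
  letI : Algebra F Ω := f.toAlgebra
  let e := H.flip.isoPullback
  haveI : IrreducibleSpace ↥(pullback (Spec.map (CommRingCat.ofHom (algebraMap F Ω))) q) := by
    haveI : Nonempty ↥(pullback (Spec.map (CommRingCat.ofHom (algebraMap F Ω))) q) := ⟨e.hom (Classical.arbitrary X)⟩
    haveI : IsIntegral (pullback (Spec.map (CommRingCat.ofHom (algebraMap F Ω))) q) := isIntegral_of_isOpenImmersion e.inv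
    infer_instance
  have huniv : (Set.univ : Set ↥(pullback (Spec.map (CommRingCat.ofHom (algebraMap F Ω))) q)) ∈
      irreducibleComponents ↥(pullback (Spec.map (CommRingCat.ofHom (algebraMap F Ω))) q) := by
    rw [irreducibleComponents_eq_singleton]; rfl
  rw [← GrothLib.Dim.topologicalKrullDim_component_pullback q _ huniv,
    IsHomeomorph.topologicalKrullDim_eq _ (Homeomorph.Set.univ _).isHomeomorph]
  exact IsHomeomorph.topologicalKrullDim_eq _ (Scheme.homeoOfIso e).isHomeomorph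

theorem isCurveOfGenus_zero {Y : Scheme.{u}} (q : Y ⟶ Spec (CommRingCat.of F)) [Smooth q] [IsProper q] [IsIntegral Y]
    (hdim : topologicalKrullDim Y = 1)
    (hh : letI : Y.Over (Spec (CommRingCat.of F)) := ⟨q⟩;
      Module.finrank F (Coh.HH Y (Coh.structureModule Y) 0) = 1 ∧ Module.finrank F (Coh.HH Y (Coh.structureModule Y) 1) = 0) :
    ModFun.IsCurveOfGenus 0 q := by
  refine ⟨inferInstance, inferInstance, ?_, fun Ω _ _ t X i p H => ?_⟩
  · rw [GeometricallyIrreducible.eq_geometrically]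
    intro K _ y Z fst snd h
    obtain ⟨f, rfl⟩ := Spec.map_surjective y
    haveI := (baseChange_facts q hh f.hom fst snd h).1
    infer_instance
  · obtain ⟨f, rfl⟩ := Spec.map_surjective t
    obtain ⟨-, hd, -, hg⟩ := baseChange_facts q hh f.hom i p H
    exact ⟨hd.trans hdim, hg⟩

end BaseChange

/-- The value at the generic point of a pulled back function. -/
theorem germ_app_eq_ψ {X Y : Scheme.{u}} [IsIntegral X] [IsIntegral Y] (f : X ⟶ Y)
    (e : f (genericPoint X) = genericPoint Y) {V : Y.Opens} (hY : genericPoint Y ∈ V)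
    (hX : genericPoint X ∈ f ⁻¹ᵁ V) (r : Γ(Y, V)) :
    X.presheaf.germ (f ⁻¹ᵁ V) _ hX (f.app V r) = CurveMult.Hurwitz.ψ e (Y.presheaf.germ V _ hY r) := by
  refine Eq.symm (Eq.trans ?_ (congrArg (fun φ => φ.hom r) (f.germ_stalkMap V (genericPoint X) hX)))
  show (f.stalkMap (genericPoint X)).hom ((Y.presheaf.stalkSpecializes (specializes_of_eq e)).hom _) =
    (f.stalkMap (genericPoint X)).hom _
  congr 1
  exact TopCat.Presheaf.germ_stalkSpecializes_apply (F := Y.presheaf) _ _ _

/-- A morphism to projective space, seen over a subfield. -/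
theorem exists_map_down {K L : Type u} [Field K] [Field L] (φ : K →+* L) {X : Scheme.{u}}
    (q : X ⟶ Spec (CommRingCat.of L)) {n : ℕ} (f : X ⟶ CohB1.ProjSpace n L) :
    ∃ g : X ⟶ CohB1.ProjSpace n K, g ≫ CohB1.ProjSpace.toSpec n K = q ≫ Spec.map (CommRingCat.ofHom φ) ∧
      ∀ i, ∃ h : g ⁻¹ᵁ SepImm.D (k := K) i = f ⁻¹ᵁ SepImm.D (k := L) i,
        ∀ l, res h.ge (SepImm.ψ g i (SepImm.rat i l)) = SepImm.ψ f i (SepImm.rat i l) := by
  let D := GrothLib.Ample.ProjMap.dataOfMorphism f q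
  let D' : Ample.ProjMap.Data (R := K) n (q ≫ Spec.map (CommRingCat.ofHom φ)) :=
    ⟨D.U, D.φ, D.cover, D.self, D.change, D.basicOpen_eq⟩
  refine ⟨D'.map, D'.map_toSpec, fun i => ⟨D'.map_preimage i, fun l => ?_⟩⟩
  rw [SepImm.ψ_ratio f i l]
  have h2 : SepImm.ψ D'.map i (SepImm.rat i l) = res (D'.map_preimage i).le (D'.φ i l) := by
    rw [SepImm.ψ, Scheme.Hom.app_eq_appLE]
    exact D'.map_appLE_ratio i l (W := D'.map ⁻¹ᵁ SepImm.D (k := K) i) (D'.map_preimage i).le le_rfl
  rw [h2, Ample.res_res]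
  exact Ample.res_self _ _

/-- A curve of genus zero is a base change of a diagonal conic. -/
theorem exists_conic_model {L : Type u} [Field L] [CharZero L] {C : Scheme.{u}} (p : C ⟶ Spec (CommRingCat.of L))
    (hp : ModFun.IsCurveOfGenus 0 p) :
    ∃ (a b : L), ∀ (K : Type u) [Field K] (φ : K →+* L) (a₀ b₀ : K), φ a₀ = a → φ b₀ = b →
      ModFun.IsCurveOfGenus 0 (str K a₀ b₀) ∧
        ∃ g : C ⟶ curve K a₀ b₀, IsPullback g p (str K a₀ b₀) (Spec.map (CommRingCat.ofHom φ)) := by
  obtain ⟨hsm, hpr, hgi, hfib⟩ := hp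
  letI : C.Over (Spec (CommRingCat.of L)) := ⟨p⟩
  haveI : Smooth p := hsm
  haveI : IsProper p := hpr
  haveI : GeometricallyIrreducible p := hgi
  haveI : Smooth (C ↘ Spec (CommRingCat.of L)) := hsm
  haveI : IsProper (C ↘ Spec (CommRingCat.of L)) := hpr
  haveI : IsLocallyNoetherian C := LocallyOfFiniteType.isLocallyNoetherian p
  haveI : IsReduced C := RedSmooth.isReduced_of_smooth p
  haveI : IrreducibleSpace C := hgi.geometrically_irreducibleSpace (𝟙 (Spec (CommRingCat.of L))) (𝟙 C) p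
    (IsPullback.of_horiz_isIso ⟨by simp⟩)
  haveI : IsIntegral C := isIntegral_of_irreducibleSpace_of_isReduced C
  haveI : GeometricallyConnected (C ↘ Spec (CommRingCat.of L)) :=
    ⟨fun K _ y Z fst snd h => by
      haveI : IrreducibleSpace Z := hgi.geometrically_irreducibleSpace y fst snd h
      show ConnectedSpace Z
      infer_instance⟩
  have h0 := finrank_H0_eq_one_of_geometricallyConnected L (C := C)
  obtain ⟨hdim, hg⟩ : topologicalKrullDim C = 1 ∧ Curv2.genus L C = 0 := by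
    let K := AlgebraicClosure L
    let φ := Spec.map (CommRingCat.ofHom (algebraMap L K))
    let X' := Limits.pullback φ p
    letI : X'.Over (Spec (CommRingCat.of K)) := ⟨Limits.pullback.fst φ p⟩
    have H : IsPullback (Limits.pullback.snd φ p) (X' ↘ Spec (CommRingCat.of K)) p φ :=
      (IsPullback.of_hasPullback φ p).flip
    obtain ⟨hd', hg'⟩ := hfib K φ X' (Limits.pullback.snd φ p) (Limits.pullback.fst φ p) H
    haveI : IrreducibleSpace X' := hgi.geometrically_irreducibleSpace _ _ _ H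
    refine ⟨?_, ?_⟩
    · have huniv : (Set.univ : Set ↥X') ∈ irreducibleComponents ↥X' := by
        rw [irreducibleComponents_eq_singleton]; rfl
      rw [← GrothLib.Dim.topologicalKrullDim_component_pullback p _ huniv]
      exact (IsHomeomorph.topologicalKrullDim_eq _ (Homeomorph.Set.univ ↥X').isHomeomorph).trans hd'
    · rw [Euler.genus_def] at hg' ⊢
      rw [← CurveMult.finrank_HH_structure_baseChange (algebraMap L K) _ H 1]
      exact hg'
  haveI := regCurve_of_smooth p hdim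
  have hF := CurveRR.isFunctionField L h0
  have hgK : _root_.FunFld.genus L C.functionField = 0 := by rw [← CurveRR.genus_eq L h0]; exact hg
  obtain ⟨a, b, x, y, ha, hb, hxt, hx0, hy0, hrel, htop⟩ := GrothLib.EssDim.exists_conic_coords hF hgK
  refine ⟨a, b, fun K _ φ a₀ b₀ ha₀ hb₀ => ?_⟩
  haveI : CharZero K := φ.charZero_iff φ.injective |>.2 inferInstance
  have ha0 : a₀ ≠ 0 := fun h => ha (by rw [← ha₀, h, map_zero])
  have hb0 : b₀ ≠ 0 := fun h => hb (by rw [← hb₀, h, map_zero])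
  let q₀ := str K a₀ b₀
  haveI : Smooth q₀ := smooth_str ha0 hb0
  haveI : IsProper q₀ := isProper_str a₀ b₀
  letI : (curve K a₀ b₀).Over (Spec (CommRingCat.of K)) := ⟨q₀⟩
  haveI : Smooth (curve K a₀ b₀ ↘ Spec (CommRingCat.of K)) := ‹Smooth q₀›
  obtain ⟨-, hint₀, -⟩ := planeCurve_setup (form K a₀ b₀) rfl (by norm_num) (form_ne_zero a₀ b₀)
  haveI := hint₀
  have hh := PlaneCohom.finrank_structure (form K a₀ b₀) rfl (by norm_num) (form_ne_zero a₀ b₀)
  -- the map to the conic
  let v : Fin (2 + 1) → C.functionField := ![x, y, 1]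
  have hv : ∀ i, v i ≠ 0 := by intro i; fin_cases i <;> simp [v, hx0, hy0]
  obtain ⟨f, hη, hf, hmem, hgerm⟩ := PnMap.exists_hom L v hv
  obtain ⟨g₀, hg₀, hpre⟩ := exists_map_down φ p f
  choose hp' hrat using hpre
  have hη' : ∀ i, genericPoint C ∈ g₀ ⁻¹ᵁ SepImm.D (k := K) i := fun i => by rw [hp' i]; exact hη i
  have hgr : ∀ i l, C.presheaf.germ _ _ (hη' i) (SepImm.ψ g₀ i (SepImm.rat i l)) = v l / v i := fun i l => by
    rw [← hgerm i l, ← hrat i l]
    exact (C.presheaf.germ_res_apply _ _ _ _).symm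
  have hval : ∀ i (G : MvPolynomial (Fin (2 + 1)) K), C.presheaf.germ _ _ (hη' i) (SepImm.ψ g₀ i (PnMap.χ K i G)) =
      MvPolynomial.eval₂Hom ((algebraMap L C.functionField).comp φ) (fun l => v l / v i) G := by
    intro i
    have : ((C.presheaf.germ (g₀ ⁻¹ᵁ SepImm.D (k := K) i) _ (hη' i)).hom.comp (SepImm.ψ g₀ i)).comp (PnMap.χ K i) =
        MvPolynomial.eval₂Hom ((algebraMap L C.functionField).comp φ) (fun l => v l / v i) := by
      refine MvPolynomial.ringHom_ext (fun r => ?_) fun l => ?_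
      · show C.presheaf.germ _ _ (hη' i) (SepImm.ψ g₀ i (PnMap.χ K i (MvPolynomial.C r))) = _
        rw [PnMap.χ_apply, MvPolynomial.eval₂Hom_C, MvPolynomial.eval₂Hom_C]
        erw [SepImm.awayToSection_cst, SepImm.ψ_cD g₀ hg₀]
        have htg : ProjUP.toGlobal (p ≫ Spec.map (CommRingCat.ofHom φ)) r = ProjUP.toGlobal p (φ r) := by
          refine congrArg (p.appTop).hom ?_
          exact (congrArg (fun ψ => ψ.hom r) (Scheme.ΓSpecIso_inv_naturality (CommRingCat.ofHom φ))).symm
        rw [htg]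
        exact HyperP1.germ_const L _ (φ r)
      · show C.presheaf.germ _ _ (hη' i) (SepImm.ψ g₀ i (PnMap.χ K i (X l))) = _
        rw [PnMap.χ_apply, MvPolynomial.eval₂Hom_X', MvPolynomial.eval₂Hom_X']
        exact hgr i l
    exact fun G => RingHom.congr_fun this G
  have hW : ∀ i, SepImm.ψ g₀ i (LefPen.dehom (form K a₀ b₀) i) = 0 := fun i => by
    refine germ_injective_of_isIntegral C (genericPoint C) (hη' i) ?_
    rw [← PnMap.χ_form, hval, map_zero]
    have hvi := hv i
    simp only [form, map_add, map_mul, map_pow, eval₂Hom_C, eval₂Hom_X', RingHom.comp_apply, ha₀, hb₀]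
    field_simp
    simp [v]
    linear_combination hrel
  haveI := Chow.isProper_toSpec 2 K
  haveI : QuasiCompact (g₀ ≫ CohB1.ProjSpace.toSpec 2 K) := by rw [hg₀]; infer_instance
  haveI : QuasiCompact g₀ := QuasiCompact.of_comp g₀ (CohB1.ProjSpace.toSpec 2 K)
  have hle : (LefPen.hypIdeal (form K a₀ b₀)).subschemeι.ker ≤ g₀.ker := by
    rw [Scheme.IdealSheafData.ker_subschemeι]
    refine Scheme.IdealSheafData.le_of_iSup_eq_top
      (fun i : Fin 3 => ⟨LefPen.chart 2 K i, HypSurf.isAffineOpen_chart i⟩) (Ample.ProjMap.iSup_basicOpen_X 2 K) fun i => ?_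
    rw [HypSurf.hypIdeal_ideal_eq _ _ i le_rfl, Ample.res_self, Scheme.Hom.ker_apply, Ideal.span_singleton_le_iff_mem]
    exact hW i
  let g : C ⟶ curve K a₀ b₀ := IsClosedImmersion.lift (LefPen.hypIdeal (form K a₀ b₀)).subschemeι g₀ hle
  have hgg : g ≫ (LefPen.hypIdeal (form K a₀ b₀)).subschemeι = g₀ := IsClosedImmersion.lift_fac _ _ _
  have hgq : g ≫ q₀ = p ≫ Spec.map (CommRingCat.ofHom φ) := by
    rw [show q₀ = (LefPen.hypIdeal (form K a₀ b₀)).subschemeι ≫ CohB1.ProjSpace.toSpec 2 K from rfl,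
      ← Category.assoc, hgg, hg₀]
  -- the base change
  let Y := pullback q₀ (Spec.map (CommRingCat.ofHom φ))
  let π : Y ⟶ curve K a₀ b₀ := pullback.fst _ _
  have HY : IsPullback π (pullback.snd q₀ (Spec.map (CommRingCat.ofHom φ))) q₀ (Spec.map (CommRingCat.ofHom φ)) :=
    IsPullback.of_hasPullback _ _
  letI : Y.Over (Spec (CommRingCat.of L)) := ⟨pullback.snd q₀ (Spec.map (CommRingCat.ofHom φ))⟩
  haveI : IsProper (Y ↘ Spec (CommRingCat.of L)) := MorphismProperty.of_isPullback HY ‹IsProper q₀›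
  haveI : Smooth (Y ↘ Spec (CommRingCat.of L)) := MorphismProperty.of_isPullback HY ‹Smooth q₀›
  obtain ⟨hintY, hdY, -⟩ := baseChange_facts q₀ ⟨hh.1, hh.2.trans rfl⟩ φ π _ HY
  haveI := hintY
  let f₁ : C ⟶ Y := pullback.lift g p hgq
  have hf₁ : f₁ ≫ (Y ↘ Spec (CommRingCat.of L)) = C ↘ Spec (CommRingCat.of L) := pullback.lift_snd _ _ _
  let m : Y ⟶ CohB1.ProjSpace 2 K := π ≫ (LefPen.hypIdeal (form K a₀ b₀)).subschemeι
  have hm : f₁ ≫ m = g₀ := by rw [← Category.assoc, pullback.lift_fst, hgg]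
  have hm' : ∀ z : C, m (f₁ z) = g₀ z := fun z => by rw [← Scheme.Hom.comp_apply, hm]
  obtain ⟨P, hP⟩ : ∃ P : _root_.FunFld.Place L C.functionField, 1 < P.1 x := by
    by_contra hall
    push Not at hall
    have hfg : GrothLib.FunFld.IsFG L C.functionField := hF.1
    haveI := hfg.finiteDimensional_adjoin hxt
    have hpos : (0 : ℤ) < Module.finrank (IntermediateField.adjoin L ({x} : Set C.functionField)) C.functionField := by
      exact_mod_cast Module.finrank_pos
    rw [← hfg.deg_poleDiv hxt] at hpos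
    have hz : GrothLib.FunFld.poleDiv (k := L) x = 0 := Finsupp.ext fun Q => by
      rw [hfg.poleDiv_apply, Finsupp.zero_apply]
      have h1 := (GrothLib.FunFld.val_le_one_iff Q hx0).1 (hall Q)
      omega
    rw [hz, GrothLib.FunFld.deg_zero] at hpos
    exact lt_irrefl 0 hpos
  obtain ⟨z₀, rfl⟩ := place_surjective (k := L) P
  have hnot : z₀.1 ∉ g₀ ⁻¹ᵁ SepImm.D (k := K) 2 := fun h => by
    rw [hp' 2] at h
    have h1 := (hmem 2 z₀).1 h 0
    simp [v] at h1
    exact not_lt.2 h1 hP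
  have hnt : (Set.range f₁).Nontrivial := ⟨f₁ (genericPoint C), ⟨_, rfl⟩, f₁ z₀.1, ⟨_, rfl⟩, fun h => hnot (by
    show g₀ z₀.1 ∈ SepImm.D (k := K) 2
    rw [← hm', ← h, hm']
    exact hη' 2)⟩
  have hdimY : topologicalKrullDim Y ≤ 1 := hdY.trans_le (dim_curve_le a₀ b₀ ha0 hb0)
  have he := CurvePoints.map_genericPoint_of_nontrivial hdimY f₁ hnt
  have hdimY' : topologicalKrullDim Y = 1 := by
    refine le_antisymm hdimY ?_
    obtain ⟨w, ⟨c, rfl⟩, hw⟩ := hnt.exists_ne (genericPoint Y)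
    let s : LTSeries Y := (RelSeries.singleton _ (f₁ c)).snoc (genericPoint Y) (CurvePoints.lt_genericPoint hw)
    have h := (Order.LTSeries.length_le_krullDim s).trans_eq (CurvePoints.krullDim_points_eq Y)
    simpa [s] using h
  haveI := regCurve_of_smooth (Y ↘ Spec (CommRingCat.of L)) hdimY'
  have hdim₀ : topologicalKrullDim (curve K a₀ b₀) = 1 := hdY.symm.trans hdimY'
  refine ⟨isCurveOfGenus_zero q₀ hdim₀ ⟨hh.1, hh.2.trans rfl⟩, ?_⟩
  -- the function fields
  have hsurj : Function.Surjective (Hurwitz.ψ he) := by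
    let R : IntermediateField L C.functionField :=
      { (Hurwitz.ψ he).fieldRange with
        algebraMap_mem' := fun c => ⟨algebraMap L Y.functionField c, Hurwitz.ψ_algebraMap L he hf₁ c⟩ }
    have hmemR : ∀ i l, v l / v i ∈ R := fun i l => by
      have hY : genericPoint Y ∈ m ⁻¹ᵁ SepImm.D (k := K) i := by
        show m (genericPoint Y) ∈ SepImm.D (k := K) i
        rw [← he, hm']; exact hη' i
      refine ⟨Y.presheaf.germ _ _ hY (SepImm.ψ m i (SepImm.rat i l)), ?_⟩
      rw [← germ_app_eq_ψ f₁ he hY (show genericPoint C ∈ f₁ ⁻¹ᵁ (m ⁻¹ᵁ SepImm.D (k := K) i) by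
        show f₁ (genericPoint C) ∈ m ⁻¹ᵁ SepImm.D (k := K) i
        rw [he]; exact hY), ← hgr i l]
      have key : ∀ (g' : C ⟶ CohB1.ProjSpace 2 K) (_ : f₁ ≫ m = g') (h' : genericPoint C ∈ g' ⁻¹ᵁ SepImm.D (k := K) i)
          (h'' : genericPoint C ∈ f₁ ⁻¹ᵁ (m ⁻¹ᵁ SepImm.D (k := K) i)),
          C.presheaf.germ _ _ h'' (f₁.app _ (SepImm.ψ m i (SepImm.rat i l))) =
            C.presheaf.germ _ _ h' (SepImm.ψ g' i (SepImm.rat i l)) := by
        rintro _ rfl h' h''; rfl
      exact key g₀ hm (hη' i) _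
    have hR : (⊤ : IntermediateField L C.functionField) ≤ R := by
      rw [← htop, IntermediateField.adjoin_le_iff, Set.insert_subset_iff, Set.singleton_subset_iff]
      exact ⟨by simpa [v] using hmemR 2 0, by simpa [v] using hmemR 2 1⟩
    exact fun z => hR IntermediateField.mem_top
  obtain ⟨ε, hε, e', he'⟩ := FFHom.exists_iso L (X := C) (Y := Y)
    (RingEquiv.ofBijective (Hurwitz.ψ he) ⟨(Hurwitz.ψ he).injective, hsurj⟩)
    (fun c => Hurwitz.ψ_algebraMap L he hf₁ c)
  have hfε : f₁ = ε.hom := FFHom.hom_ext (Y ↘ Spec (CommRingCat.of L)) (hf₁.trans hε.symm) (by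
    rw [FFHom.fromSpecStalk_comp_eq he, FFHom.fromSpecStalk_comp_eq e', he']
    rfl)
  haveI : IsIso f₁ := hfε ▸ inferInstance
  refine ⟨g, ?_⟩
  have hh' : IsPullback f₁ p (Y ↘ Spec (CommRingCat.of L)) (𝟙 _) :=
    IsPullback.of_horiz_isIso ⟨by rw [hf₁, Category.comp_id]; rfl⟩
  have h := hh'.paste_horiz HY
  rwa [pullback.lift_fst, Category.id_comp] at h

end GrothLib.EssDim.Conic
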