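import Groth.Prelude.Def_EssDim
import Mathlib.RingTheory.AlgebraicIndependent.TranscendenceBasis
import Mathlib.RingTheory.AlgebraicIndependent.AlgebraicClosure

/-!
# Essential dimension under extension of the base field
-/

set_option backward.isDefEq.respectTransparency false
set_option autoImplicit false

universe w u

open CategoryTheory Opposite AlgebraicGeometry

namespace GrothLib.EssDim

theorem trdeg_adjoin_le {k K L : Type u} [Field k] [Field K] [Field L] [Algebra k K] [Algebra K L] [Algebra k L]
    [IsScalarTower k K L] (E : IntermediateField k L) :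
    Algebra.trdeg K (IntermediateField.adjoin K (E : Set L)) ≤ Algebra.trdeg k E := by
  let s : Set (IntermediateField.adjoin K (E : Set L)) := Subtype.val ⁻¹' (E : Set L)
  have hs : Subtype.val '' s = (E : Set L) := by
    rw [Set.image_preimage_eq_inter_range, Subtype.range_coe_subtype, Set.inter_eq_left]
    exact fun x hx => IntermediateField.subset_adjoin K _ hx
  have htop : IntermediateField.adjoin K s = ⊤ := by
    apply IntermediateField.map_injective (IntermediateField.adjoin K (E : Set L)).val
    rw [IntermediateField.adjoin_map]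
    change IntermediateField.adjoin K (Subtype.val '' s) = _
    rw [hs, ← AlgHom.fieldRange_eq_map, IntermediateField.fieldRange_val]
  have : Algebra.IsAlgebraic (IntermediateField.adjoin K s) (IntermediateField.adjoin K (E : Set L)) :=
    ⟨fun a => isAlgebraic_algebraMap (⟨a, htop ▸ IntermediateField.mem_top⟩ : IntermediateField.adjoin K s)⟩
  have := IntermediateField.isAlgebraic_adjoin_iff_top.mp this
  obtain ⟨t, hts, ht⟩ := exists_isTranscendenceBasis_subset (R := K) s
  rw [← ht.cardinalMk_eq_trdeg]
  let y : t → E := fun a => ⟨(a : IntermediateField.adjoin K (E : Set L)).1, hts a.2⟩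
  have hy : AlgebraicIndependent k y := by
    refine AlgebraicIndependent.of_comp E.val ?_
    have h1 : AlgebraicIndependent K (fun a : t => ((a : IntermediateField.adjoin K (E : Set L)) : L)) :=
      ht.1.map' (f := (IntermediateField.adjoin K (E : Set L)).val) Subtype.val_injective
    exact h1.restrictScalars (algebraMap k K).injective
  exact hy.cardinalMk_le_trdeg

variable (k : Type u) [Field k] (K : Type u) [Field K] [Algebra k K]
  (P : (Over (Spec (CommRingCat.of k)))ᵒᵖ ⥤ Type w)

/-- A point over the bigger field, seen over the smaller one. -/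
noncomputable def ptIso (L : Type u) [Field L] [Algebra K L] [Algebra k L] [IsScalarTower k K L] :
    (Over.map (Spec.map (CommRingCat.ofHom (algebraMap k K)))).obj (SGA7.pt (K := K) L) ≅ SGA7.pt (K := k) L :=
  Over.isoMk (Iso.refl _) (by
    change 𝟙 _ ≫ Spec.map (CommRingCat.ofHom (algebraMap k L)) =
      Spec.map (CommRingCat.ofHom (algebraMap K L)) ≫ Spec.map (CommRingCat.ofHom (algebraMap k K))
    rw [Category.id_comp, ← Spec.map_comp, ← CommRingCat.ofHom_comp, ← IsScalarTower.algebraMap_eq])

theorem ed_baseChange_le :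
    _root_.EssDim.ed (k := K) ((Over.map (Spec.map (CommRingCat.ofHom (algebraMap k K)))).op ⋙ P) ≤
      _root_.EssDim.ed P := by
  refine iSup_le fun L => iSup_le fun _ => iSup_le fun _ => iSup_le fun ξ => ?_
  let : Algebra k L := ((algebraMap K L).comp (algebraMap k K)).toAlgebra
  have : IsScalarTower k K L := IsScalarTower.of_algebraMap_eq' rfl
  let ξ' : _root_.EssDim.FPt P L := P.map (ptIso k K L).inv.op ξ
  refine le_trans ?_ (_root_.EssDim.edAt_le_ed ξ')
  refine WithBot.coe_le_coe.mpr (le_iInf fun ⟨E, ξ₀, hξ₀⟩ => ?_)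
  let E' : IntermediateField K L := IntermediateField.adjoin K (E : Set L)
  let ι : E →ₐ[k] E' :=
    { toFun := fun e => ⟨e.1, IntermediateField.subset_adjoin K _ e.2⟩
      map_one' := rfl
      map_mul' := fun _ _ => rfl
      map_zero' := rfl
      map_add' := fun _ _ => rfl
      commutes' := fun c => Subtype.ext rfl }
  refine le_trans (_root_.EssDim.edAt_le_of_descends (K := E') ?_)
    (OrderHomClass.mono Cardinal.toENat (trdeg_adjoin_le E))
  refine ⟨P.map ((ptIso k K E').hom ≫ _root_.EssDim.resPt ι).op ξ₀, ?_⟩
  have h1 : P.map (ptIso k K L).hom.op ξ' = ξ := by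
    change (P.map (ptIso k K L).inv.op ≫ P.map (ptIso k K L).hom.op) ξ = ξ
    rw [← P.map_comp, ← op_comp, Iso.hom_inv_id, op_id, P.map_id]
    rfl
  rw [← h1, ← hξ₀]
  change (P.map ((ptIso k K E').hom ≫ _root_.EssDim.resPt ι).op ≫
      P.map ((Over.map (Spec.map (CommRingCat.ofHom (algebraMap k K)))).map (_root_.EssDim.resPt E'.val)).op) ξ₀ =
    (P.map (_root_.EssDim.resPt E.val).op ≫ P.map (ptIso k K L).hom.op) ξ₀
  rw [← P.map_comp, ← P.map_comp, ← op_comp, ← op_comp]
  congr 4
  apply Over.OverMorphism.ext
  simp only [ptIso, Over.comp_left, Over.isoMk_hom_left, Iso.refl_hom, _root_.EssDim.resPt_left, Over.map_map_left]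
  rw [← Category.assoc, Category.comp_id, Category.id_comp, ← Spec.map_comp, ← CommRingCat.ofHom_comp]
  rfl

end GrothLib.EssDim
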