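import Groth.Agent.Lib.EssDim.ConicCurve

/-!
# The stack of curves of genus zero has essential dimension at most two
-/

set_option backward.isDefEq.respectTransparency false
set_option linter.style.haveILetI false
set_option autoImplicit false

universe u

open CategoryTheory CategoryTheory.Limits AlgebraicGeometry

noncomputable section

namespace GrothLib.EssDim

variable {k : Type u} [Field k]

local notation "pt'" => SGA7.pt (K := k)

theorem trdeg_adjoin_pair_le {L : Type u} [Field L] [Algebra k L] (a b : L) :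
    Algebra.trdeg k (IntermediateField.adjoin k ({a, b} : Set L)) ≤ 2 := by
  classical
  let E := IntermediateField.adjoin k ({a, b} : Set L)
  let s : Set E := Subtype.val ⁻¹' ({a, b} : Set L)
  have hs : Subtype.val '' s = ({a, b} : Set L) := by
    rw [Set.image_preimage_eq_inter_range, Subtype.range_coe_subtype, Set.inter_eq_left]
    exact fun x hx => IntermediateField.subset_adjoin k _ hx
  have htop : IntermediateField.adjoin k s = ⊤ := by
    apply IntermediateField.map_injective E.val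
    rw [IntermediateField.adjoin_map]
    change IntermediateField.adjoin k (Subtype.val '' s) = _
    rw [hs, ← AlgHom.fieldRange_eq_map, IntermediateField.fieldRange_val]
  have : Algebra.IsAlgebraic (IntermediateField.adjoin k s) E :=
    ⟨fun x => isAlgebraic_algebraMap (⟨x, htop ▸ IntermediateField.mem_top⟩ : IntermediateField.adjoin k s)⟩
  have := IntermediateField.isAlgebraic_adjoin_iff_top.mp this
  refine (Algebra.IsAlgebraic.trdeg_le_cardinalMk k s).trans ?_
  have h1 : Cardinal.mk s ≤ Cardinal.mk ({a, b} : Set L) :=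
    Cardinal.mk_le_of_injective (f := fun x : s => (⟨x.1.1, x.2⟩ : ({a, b} : Set L)))
      (fun x y h => Subtype.ext (Subtype.ext (congrArg (fun z : ({a, b} : Set L) => z.1) h)))
  refine h1.trans ((Cardinal.mk_insert_le).trans ?_)
  rw [Cardinal.mk_singleton, one_add_one_eq_two]

theorem edSt_mgn_zero_zero [CharZero k] [_root_.FibCat.IsFibGrpd (CurvSt.Mgn (Spec (CommRingCat.of k)) 0 0).p] :
    _root_.EssDim.edSt (CurvSt.Mgn (Spec (CommRingCat.of k)) 0 0) ≠ ⊥ ∧
      _root_.EssDim.edSt (CurvSt.Mgn (Spec (CommRingCat.of k)) 0 0) ≤ ((2 : ℕ) : WithBot ℕ∞) := by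
  refine ⟨?_, ?_⟩
  · let x₀ : StkCnt.pts (CurvSt.Mgn (Spec (CommRingCat.of k)) 0 0) k :=
      ⟨⟨stdP1 k (Fin.castLE (Nat.zero_le 2)), isSmoothPtdFam_stdP1 k _ (Fin.castLE_injective _)⟩, rfl⟩
    have h := _root_.EssDim.edAt_le_ed (P := Gerb.isoClPsh (CurvSt.Mgn (Spec (CommRingCat.of k)) 0 0)) (Quot.mk _ x₀)
    intro hb
    exact WithBot.coe_ne_bot (le_bot_iff.1 (h.trans (le_of_eq hb)))
  · refine iSup_le fun L => iSup_le fun _ => iSup_le fun _ => iSup_le fun ξ => ?_
    induction ξ using Quot.ind with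
    | mk x =>
      obtain ⟨⟨⟨bx, C, p, σ, hσ⟩, hC⟩, hx⟩ := x
      obtain rfl : bx = pt' L := hx
      haveI : CharZero L := charZero_of_injective_algebraMap (algebraMap k L).injective
      obtain ⟨a, b, hab⟩ := Conic.exists_conic_model p hC.1
      let F := IntermediateField.adjoin k ({a, b} : Set L)
      let a₀ : F := ⟨a, IntermediateField.subset_adjoin k _ (by simp)⟩
      let b₀ : F := ⟨b, IntermediateField.subset_adjoin k _ (by simp)⟩
      obtain ⟨hcurve, g, hg⟩ := hab F (F.val : F →+* L) a₀ b₀ rfl rfl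
      let y₀ : CurvSt.PtFamObj (Spec (CommRingCat.of k)) 0 :=
        { base := pt' F
          C := Conic.curve F a₀ b₀
          f := Conic.str F a₀ b₀
          sect := Fin.elim0
          sect_f := fun i => Fin.elim0 i }
      have hy₀ : CurvSt.IsSmoothPtdFam y₀.f y₀.sect 0 := ⟨hcurve, fun i => Fin.elim0 i⟩
      let x₀ : StkCnt.pts (CurvSt.Mgn (Spec (CommRingCat.of k)) 0 0) F := ⟨⟨y₀, hy₀⟩, rfl⟩
      let ψ₀ : (⟨pt' L, C, p, σ, hσ⟩ : CurvSt.PtFamObj (Spec (CommRingCat.of k)) 0) ⟶ y₀ :=
        ⟨_root_.EssDim.resPt F.val, g, hg, fun i => Fin.elim0 i⟩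
      let X : (CurvSt.Mgn (Spec (CommRingCat.of k)) 0 0).obj := ⟨⟨pt' L, C, p, σ, hσ⟩, hC⟩
      let ψ : X ⟶ x₀.1 := ObjectProperty.homMk ψ₀
      have hd : _root_.EssDim.Descends (Gerb.isoClPsh (CurvSt.Mgn (Spec (CommRingCat.of k)) 0 0))
          (Quot.mk (Gerb.IsoRel (CurvSt.Mgn (Spec (CommRingCat.of k)) 0 0) (pt' L)) ⟨X, rfl⟩) F :=
        (_root_.EssDim.descends_isoCl_iff _ _ F).2 ⟨x₀, ψ,
          IsHomLift.of_fac' _ _ _ rfl rfl (by simp only [eqToHom_refl, Category.id_comp, Category.comp_id]; rfl)⟩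
      refine (WithBot.coe_le_coe.2 ((_root_.EssDim.edAt_le_of_descends hd).trans
        (OrderHomClass.mono Cardinal.toENat (trdeg_adjoin_pair_le a b)))).trans (le_of_eq ?_)
      simp

end GrothLib.EssDim
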