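import Groth.Prelude.Def_EssDim
import Groth.Prelude.Def_StCurv2
import Groth.Agent.Lib.Altitude.Fibre
import Groth.Agent.Lib.AffDom.LocalDim
import Groth.Agent.Lib.AlgSp.DiagChart
import Groth.Agent.Lib.AlgSp.MonoPoint
import Groth.Agent.Lib.AlgSp.Decent
import Groth.Agent.Lib.LocConst.Generic
import Groth.Agent.Lib.AlgSt.RepBy
import Groth.Agent.Lib.AlgSt.OfSp
import Groth.Agent.Lib.AlgSt.LocQ

/-!
# Essential dimension and fibre dimension

* `exists_point_trdeg_le`: a field-valued point of a quasi-separated space of dimension at most `d` over a field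
  comes from a point over an extension of transcendence degree at most `d`.
* `edStAt_le_image_add`: essential dimension along a morphism with fibres of dimension at most `d`.
-/

set_option backward.isDefEq.respectTransparency false
set_option backward.isDefEq.respectTransparency.types false

universe u

open CategoryTheory CategoryTheory.Limits AlgebraicGeometry Opposite

namespace GrothLib.EssDim

open _root_.AlgSp

section Scheme

variable {K : Type u} [Field K] {U V : Scheme.{u}}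

/-- Transcendence degree at a point is at most the fibre dimension, over a base etale over a field. -/
theorem exists_ptTrdeg_le_fibreDimAt (h : U ⟶ V) [LocallyOfFiniteType h] (q : V ⟶ Spec (CommRingCat.of K))
    [Etale q] (u : U) :
    ∃ n : ℕ, GrothLib.AffDom.ptTrdeg (h ≫ q) u = n ∧ (n : WithBot ℕ∞) ≤ FlatMor.fibreDimAt h u := by
  obtain ⟨n, hn, hdim⟩ := GrothLib.Altitude.exists_trdeg_eq_dim_closure h u
  refine ⟨n, ?_, ?_⟩
  · letI := (GrothLib.AffDom.toRes q (h u)).toAlgebra
    letI := (h.residueFieldMap u).hom.toAlgebra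
    letI : Algebra K (U.residueField u) := (GrothLib.AffDom.toRes (h ≫ q) u).toAlgebra
    haveI : IsScalarTower K (V.residueField (h u)) (U.residueField u) :=
      IsScalarTower.of_algebraMap_eq' (GrothLib.AffDom.toRes_comp h q u)
    haveI : FaithfulSMul K (V.residueField (h u)) :=
      (faithfulSMul_iff_algebraMap_injective _ _).2 (RingHom.injective _)
    haveI : FaithfulSMul (V.residueField (h u)) (U.residueField u) :=
      (faithfulSMul_iff_algebraMap_injective _ _).2 (RingHom.injective _)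
    have h0 : Algebra.trdeg K (V.residueField (h u)) = 0 := by
      obtain ⟨m, hm, hm'⟩ := GrothLib.AffDom.exists_dim_closure q (h u)
      have h' : GrothLib.AffDom.ptTrdeg q (h u) = Algebra.trdeg K (V.residueField (h u)) := rfl
      rw [← h', hm']
      have : DiscreteTopology ↥V := discreteTopology_iff_isOpen_singleton.2 fun v => by
        have := GrothLib.LocConst.locallyQuasiFinite_of_etale q
        have hs := (q.isDiscrete_preimage_singleton (q v)).to_subtype
        have e : q ⁻¹' {q v} = Set.univ := Set.eq_univ_of_forall fun w =>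
          Subsingleton.elim (α := PrimeSpectrum K) _ _
        rw [e] at hs
        have : DiscreteTopology ↥(Set.univ : Set ↥V) := hs
        have h2 := (isOpen_univ (X := ↥V)).isOpenMap_subtype_val _ (isOpen_discrete ({⟨v, trivial⟩} : Set ↥(Set.univ : Set ↥V)))
        rwa [Set.image_singleton] at h2
      have h1 : topologicalKrullDim (closure {h u} : Set V) ≤ 0 :=
        topologicalKrullDim_zero_of_discreteTopology _
      rw [hm] at h1
      exact_mod_cast Nat.le_zero.1 (Nat.cast_le.1 h1)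
    show Algebra.trdeg K (U.residueField u) = n
    rw [← trdeg_add_eq K (V.residueField (h u)) (A := U.residueField u), h0, zero_add]
    exact hn
  · haveI : LocallyOfFiniteType (h.fiberToSpecResidueField (h u)) :=
      MorphismProperty.pullback_snd h _ inferInstance
    rw [← hdim]
    unfold FlatMor.fibreDimAt
    rw [GrothLib.AffDom.localDim_eq (K := V.residueField (h u)) (h.fiberToSpecResidueField (h u)) (h.asFiber u)]
    exact le_add_of_nonneg_right ringKrullDim_nonneg_of_nontrivial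

end Scheme

variable {k : Type u} [Field k]

local notation "S₀" => Spec (CommRingCat.of k)

/-- A morphism between the spectra of two fields over `k` comes from a homomorphism. -/
theorem exists_resPt {K L : Type u} [Field K] [Algebra k K] [Field L] [Algebra k L]
    (g : SGA7.pt (K := k) L ⟶ SGA7.pt (K := k) K) : ∃ f : K →ₐ[k] L, _root_.EssDim.resPt f = g := by
  let φ := (Spec.preimage g.left).hom
  have hφ : Spec.map (CommRingCat.ofHom φ) = g.left := Spec.map_preimage _
  have hc : φ.comp (algebraMap k K) = algebraMap k L := by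
    have h := Over.w g
    change g.left ≫ Spec.map (CommRingCat.ofHom (algebraMap k K)) = Spec.map (CommRingCat.ofHom (algebraMap k L)) at h
    rw [← hφ, ← Spec.map_comp, ← CommRingCat.ofHom_comp] at h
    exact congrArg CommRingCat.Hom.hom (Spec.map_injective h)
  exact ⟨{ φ with commutes' := RingHom.congr_fun hc }, Over.OverMorphism.ext hφ⟩

variable {K : Type u} [Field K] [Algebra k K]

/-- A point of a quasi-separated space of dimension at most `d` over a field is defined over an extension of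
transcendence degree at most `d`. -/
theorem exists_point_trdeg_le {F : Sp S₀} (hF : IsAlgSpace F)
    (π : F ⟶ (yon S₀).obj (SGA7.pt (K := k) K)) (hl : LocP @LocallyOfFiniteType π)
    (hq : _root_.AlgSp.IsQuasiSeparatedMor π) (d : ℕ) (hd : CurvSt.RelDimLE d π)
    {L : Type u} [Field L] [Algebra k L] (σ : (yon S₀).obj (SGA7.pt (K := k) L) ⟶ F) :
    ∃ (M : Type u) (_ : Field M) (_ : Algebra k M) (c : M →ₐ[k] L) (g : K →ₐ[k] M)
      (p : (yon S₀).obj (SGA7.pt (K := k) M) ⟶ F),
      (yon S₀).map (_root_.EssDim.resPt c) ≫ p = σ ∧ p ≫ π = (yon S₀).map (_root_.EssDim.resPt g) ∧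
      (letI := g.toRingHom.toAlgebra; Algebra.trdeg K M ≤ d) := by
  have hqY : IsQuasiSeparatedSp ((yon S₀).obj (SGA7.pt (K := k) K)) := by
    refine (repWith_diag_yon_iff _ _).2 ?_
    haveI : IsAffine (SGA7.pt (K := k) K).left := inferInstanceAs (IsAffine (Spec (CommRingCat.of K)))
    haveI : IsAffine (Spec (CommRingCat.of k)) := inferInstance
    infer_instance
  have hdec := GrothLib.AlgSp.isDecent_of_isQuasiSeparatedSp hF (GrothLib.AlgSp.isQuasiSeparatedSp_of_mor hq hqY)
  let qL : FieldPt F := ⟨L, (SGA7.pt (K := k) L).hom, (J S₀).uliftYonedaEquiv.{u + 1} σ⟩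
  have hqL : qL.toHom = σ := Equiv.symm_apply_apply _ _
  obtain ⟨p, hp, hpm, -⟩ := hdec (Points.mk qL)
  obtain ⟨c', hc'⟩ := GrothLib.AlgSp.exists_factor_mono_point hF p qL hp
  letI : Algebra k p.K := ((Spec.preimage p.str).hom).toAlgebra
  have hstr : p.str = Spec.map (CommRingCat.ofHom (algebraMap k p.K)) := (Spec.map_preimage p.str).symm
  let ι : SGA7.pt (K := k) p.K ≅ p.pt := Over.isoMk (Iso.refl _) (by
    change 𝟙 _ ≫ p.str = Spec.map (CommRingCat.ofHom (algebraMap k p.K))
    rw [Category.id_comp, hstr])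
  obtain ⟨c, hc⟩ := exists_resPt (k := k) (c' ≫ ι.inv : SGA7.pt (K := k) L ⟶ SGA7.pt (K := k) p.K)
  let P : (yon S₀).obj (SGA7.pt (K := k) p.K) ⟶ F := (yon S₀).map ι.hom ≫ p.toHom
  obtain ⟨g', hg'⟩ := (yon S₀).map_surjective (P ≫ π)
  obtain ⟨g, rfl⟩ := exists_resPt g'
  refine ⟨p.K, inferInstance, inferInstance, c, g, P, ?_, hg'.symm, ?_⟩
  · change _ ≫ (yon S₀).map ι.hom ≫ p.toHom = σ
    rw [← Functor.map_comp_assoc, hc, Category.assoc, Iso.inv_hom_id, Category.comp_id, hc', hqL]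
  obtain ⟨U, V, a, b, h, u, ha, hb, w, hu, hdu⟩ := hd (Points.mk p)
  obtain ⟨b', rfl⟩ := (yon S₀).map_surjective b
  haveI : Etale b'.left := (repWith_yon_map_iff _ _).1 hb
  haveI : LocallyOfFiniteType h.left := hl a _ h ha hb w
  obtain ⟨n, hn, hnd⟩ := exists_ptTrdeg_le_fibreDimAt (K := K) h.left b'.left u
  let qU := FieldPt.ofPt a u
  obtain ⟨d', hd'⟩ := GrothLib.AlgSp.exists_factor_mono_point hF p qU hu.symm
  let j : qU.pt ⟶ U := Over.homMk (U.left.fromSpecResidueField u) rfl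
  have hqU : qU.toHom = (yon S₀).map j ≫ a := FieldPt.toHom_ofPt a u
  have heq : (d' ≫ ι.inv) ≫ _root_.EssDim.resPt g = j ≫ h ≫ b' := (yon S₀).map_injective (by
    rw [Functor.map_comp, hg', Functor.map_comp, Category.assoc]
    change _ ≫ (yon S₀).map ι.inv ≫ ((yon S₀).map ι.hom ≫ p.toHom) ≫ π = _
    have e1 : (yon S₀).map ι.inv ≫ (yon S₀).map ι.hom = 𝟙 _ := by
      rw [← Functor.map_comp, Iso.inv_hom_id, CategoryTheory.Functor.map_id]
    rw [Category.assoc, reassoc_of% e1, ← Category.assoc, hd', hqU, Category.assoc, w]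
    rfl)
  let τ := GrothLib.AffDom.toRes (h.left ≫ b'.left) u
  have hle : letI := g.toRingHom.toAlgebra; letI := τ.toAlgebra;
      Algebra.trdeg K p.K ≤ Algebra.trdeg K (U.left.residueField u) := by
    letI := g.toRingHom.toAlgebra
    letI := τ.toAlgebra
    let δ := (Spec.preimage d'.left).hom
    have hδ : δ.comp g.toRingHom = τ := by
      refine congrArg CommRingCat.Hom.hom (Spec.map_injective (a₁ := CommRingCat.ofHom (δ.comp g.toRingHom))
        (a₂ := CommRingCat.ofHom τ) ?_)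
      rw [GrothLib.AffDom.SpecMap_toRes, CommRingCat.ofHom_comp, Spec.map_comp]
      have := congrArg (fun t => t.left) heq
      simpa [δ, ι, j] using this
    exact trdeg_le_of_injective ({ δ with commutes' := RingHom.congr_fun hδ } : p.K →ₐ[K] U.left.residueField u)
      (RingHom.injective δ)
  refine hle.trans ?_
  have hnd' : (n : WithBot ℕ∞) ≤ (d : WithBot ℕ∞) := hnd.trans hdu
  change GrothLib.AffDom.ptTrdeg (h.left ≫ b'.left) u ≤ _
  rw [hn]
  exact Nat.cast_le.2 (Nat.cast_le.1 hnd')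

end GrothLib.EssDim

namespace GrothLib.EssDim

open _root_.AlgSt GrothLib.FibCat GrothLib.AlgSt

variable {k : Type u} [Field k] {𝒳 𝒴 : _root_.AlgSt.Cat (Spec (CommRingCat.of k))}
  [_root_.FibCat.IsFibGrpd 𝒳.p] [_root_.FibCat.IsFibGrpd 𝒴.p]

/-- A field of definition of the image gives one of the object, of bounded transcendence degree. -/
theorem exists_descends_image (F : 𝒳 ⥤ᵇ 𝒴) (d : ℕ)
    (hF : RepByAlgSpWith
      (AlgSp.LocP @LocallyOfFiniteType ⊓ AlgSp.IsQuasiSeparatedMor ⊓ fun _ _ g => CurvSt.RelDimLE d g) F)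
    {L : Type u} [Field L] [Algebra k L] (x : StkCnt.pts 𝒳 L) (K : IntermediateField k L)
    (hK : _root_.EssDim.Descends (Gerb.isoClPsh 𝒴)
      (Quot.mk (Gerb.IsoRel 𝒴 (SGA7.pt (K := k) L)) ⟨F.obj x.1, (F.w_obj x.1).trans x.2⟩) K) :
    ∃ K' : IntermediateField k L,
      _root_.EssDim.Descends (Gerb.isoClPsh 𝒳) (Quot.mk (Gerb.IsoRel 𝒳 (SGA7.pt (K := k) L)) x) K' ∧
        Cardinal.toENat (Algebra.trdeg k K') ≤ Cardinal.toENat (Algebra.trdeg k K) + d := by
  have g𝒳 : _root_.FibCat.IsFibGrpd 𝒳.p := inferInstance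
  have g𝒴 : _root_.FibCat.IsFibGrpd 𝒴.p := inferInstance
  obtain ⟨y₀, φ, hφ⟩ := (_root_.EssDim.descends_isoCl_iff 𝒴 _ K).1 hK
  obtain ⟨z, j, hj⟩ := Yon.exists_functor g𝒴 y₀.1 y₀.2
  let r := _root_.EssDim.resPt K.val
  let a : (_root_.FibCat.overCat (SGA7.pt (K := k) K)).obj := Over.mk r
  have hm : 𝒴.p.IsHomLift r (z.map (Yon.toId a) ≫ j.hom) := by
    have : (_root_.FibCat.overCat (SGA7.pt (K := k) K)).p.IsHomLift r (Yon.toId a) := Yon.toId_lift a
    have : 𝒴.p.IsHomLift r (z.map (Yon.toId a)) := BasedFunctor.preserves_isHomLift z _ _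
    have := hj
    exact IsHomLift.comp_lift_id_right' 𝒴.p r _ (SGA7.pt (K := k) K) j.hom
  have := hφ
  obtain ⟨θ, hθ, -⟩ := IsFibGrpd.exists_iso_of_lifts g𝒴 r (z.map (Yon.toId a) ≫ j.hom) φ
  let Ω : (_root_.FibCat.fp z F).obj := Fp.mk a x.1 θ.symm (isHomLift_id_inv 𝒴.p (R := SGA7.pt (K := k) L) θ)
  obtain ⟨G, e, he, ⟨hl, hq⟩, hd⟩ := hF _ z
  obtain ⟨e', -, -, ⟨ε⟩⟩ := IsEquivOver.symm he
  let o := e'.obj Ω
  let i : e.obj o ≅ Ω := isoApp ε Ω
  have hob : o.base = SGA7.pt (K := k) L := (e'.w_obj Ω).trans rfl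
  let π := spMapOfOver (BasedFunctor.comp e (_root_.FibCat.fpFst z F))
  let σ : (AlgSp.yon (Spec (CommRingCat.of k))).obj (SGA7.pt (K := k) L) ⟶ G.obj :=
    (AlgSp.J (Spec (CommRingCat.of k))).uliftYonedaEquiv.{u + 1}.symm (G.obj.obj.map (eqToHom hob.symm).op o.sec)
  obtain ⟨M, _, _, c, g, p, hcp, -, hdeg⟩ := exists_point_trdeg_le G.property π hl hq d hd σ
  let oM : (ofSp G.obj).obj := ⟨SGA7.pt (K := k) M, (AlgSp.J (Spec (CommRingCat.of k))).uliftYonedaEquiv.{u + 1} p⟩
  let μ : o ⟶ oM := ⟨eqToHom hob ≫ _root_.EssDim.resPt c, by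
    have h1 := congrArg (AlgSp.J (Spec (CommRingCat.of k))).uliftYonedaEquiv.{u + 1} hcp
    rw [Equiv.apply_symm_apply] at h1
    change G.obj.obj.map (eqToHom hob ≫ _root_.EssDim.resPt c).op
      ((AlgSp.J (Spec (CommRingCat.of k))).uliftYonedaEquiv.{u + 1} p) = o.sec
    rw [op_comp, Functor.map_comp_apply,
      ((AlgSp.J _).uliftYonedaEquiv_naturality p (_root_.EssDim.resPt c)).trans h1,
      ← Functor.map_comp_apply, ← op_comp, eqToHom_trans, eqToHom_refl, op_id, Functor.map_id_apply]⟩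
  let x₁ : StkCnt.pts 𝒳 M := ⟨(e.obj oM).obj.snd, ((_root_.FibCat.fpSnd z F).w_obj _).trans (e.w_obj oM)⟩
  have h2 : (_root_.FibCat.fp z F).p.IsHomLift (_root_.EssDim.resPt c) (i.inv ≫ e.map μ) := by
    have hb : (ofSp G.obj).p.IsHomLift (_root_.EssDim.resPt c) μ :=
      IsHomLift.of_fac' _ _ _ hob rfl (by
        change eqToHom hob ≫ _root_.EssDim.resPt c = _
        simp)
    have hb' : (_root_.FibCat.fp z F).p.IsHomLift (_root_.EssDim.resPt c) (e.map μ) :=
      BasedFunctor.preserves_isHomLift e _ _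
    have hi : (_root_.FibCat.fp z F).p.IsHomLift (𝟙 (SGA7.pt (K := k) L)) i.hom := isHomLift_isoApp ε rfl
    have hi' : (_root_.FibCat.fp z F).p.IsHomLift (𝟙 (SGA7.pt (K := k) L)) i.inv := IsHomLift.lift_id_inv _ _ i
    exact IsHomLift.comp_lift_id_left' _ (SGA7.pt (K := k) L) _ _ _
  let ψ : x.1 ⟶ x₁.1 := (i.inv ≫ e.map μ).hom.snd
  have hψ : 𝒳.p.IsHomLift (_root_.EssDim.resPt c) ψ := Fp.isHomLift_snd _ _ h2
  let E : M ≃ₐ[k] c.fieldRange := AlgEquiv.ofInjectiveField c
  obtain ⟨x₀, κ, hκ⟩ := IsFibGrpd.exists_lift_of_eq g𝒳 x₁.2 (_root_.EssDim.resPt E.toAlgHom)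
  have := hκ
  have hψ' : 𝒳.p.IsHomLift (_root_.EssDim.resPt c.fieldRange.val ≫ _root_.EssDim.resPt E.toAlgHom) ψ := by
    rw [← _root_.EssDim.resPt_comp]
    exact hψ
  obtain ⟨χ, ⟨hχ, -⟩, -⟩ := IsFibGrpd.existsUnique_lift g𝒳 (_root_.EssDim.resPt E.toAlgHom)
    (_root_.EssDim.resPt c.fieldRange.val) κ ψ
  refine ⟨c.fieldRange, (_root_.EssDim.descends_isoCl_iff 𝒳 x _).2
    ⟨⟨x₀, IsHomLift.domain_eq 𝒳.p (_root_.EssDim.resPt E.toAlgHom) κ⟩, χ, hχ⟩, ?_⟩
  let _ := g.toRingHom.toAlgebra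
  have : IsScalarTower k K M := IsScalarTower.of_algebraMap_eq' g.comp_algebraMap.symm
  have : FaithfulSMul k K := (faithfulSMul_iff_algebraMap_injective _ _).2 (RingHom.injective _)
  have : FaithfulSMul K M := (faithfulSMul_iff_algebraMap_injective _ _).2 (RingHom.injective _)
  rw [← E.trdeg_eq, ← trdeg_add_eq k K (A := M), map_add]
  gcongr
  simpa using OrderHomClass.mono Cardinal.toENat hdeg

/-- Essential dimension of an object along a morphism with fibres of dimension at most `d`. -/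
theorem edStAt_le_image_add (F : 𝒳 ⥤ᵇ 𝒴) (d : ℕ)
    (hF : RepByAlgSpWith
      (AlgSp.LocP @LocallyOfFiniteType ⊓ AlgSp.IsQuasiSeparatedMor ⊓ fun _ _ g => CurvSt.RelDimLE d g) F)
    {L : Type u} [Field L] [Algebra k L] (x : StkCnt.pts 𝒳 L) :
    _root_.EssDim.edStAt 𝒳 x ≤ _root_.EssDim.edStAt 𝒴 ⟨F.obj x.1, (F.w_obj x.1).trans x.2⟩ + d := by
  unfold _root_.EssDim.edStAt _root_.EssDim.edAt
  rw [ENat.iInf_add]
  refine le_iInf fun ⟨K, hK⟩ => ?_
  obtain ⟨K', h₁, h₂⟩ := exists_descends_image F d hF x K hK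
  exact (_root_.EssDim.edAt_le_of_descends h₁).trans h₂

/-- Essential dimension along a morphism with fibres of dimension at most `d`. -/
theorem edSt_le_add (F : 𝒳 ⥤ᵇ 𝒴) (d : ℕ)
    (hF : RepByAlgSpWith
      (AlgSp.LocP @LocallyOfFiniteType ⊓ AlgSp.IsQuasiSeparatedMor ⊓ fun _ _ g => CurvSt.RelDimLE d g) F) :
    _root_.EssDim.edSt 𝒳 ≤ _root_.EssDim.edSt 𝒴 + ((d : ℕ) : WithBot ℕ∞) := by
  refine iSup_le fun L => iSup_le fun _ => iSup_le fun _ => iSup_le fun ξ => ?_
  induction ξ using Quot.ind with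
  | mk x =>
    refine (WithBot.coe_le_coe.2 (edStAt_le_image_add F d hF x)).trans ?_
    rw [WithBot.coe_add]
    exact add_le_add (_root_.EssDim.edAt_le_ed (P := Gerb.isoClPsh 𝒴) _) le_rfl

end GrothLib.EssDim
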