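import Groth.Agent.Lib.Ample.ProjMap
import Groth.Agent.Lib.GradedAlg.ProjMap
import Mathlib.LinearAlgebra.Matrix.GeneralLinearGroup.Defs
import Mathlib.RingTheory.MvPolynomial.Homogeneous

/-!
# Rational points and linear automorphisms of the projective line

* `exists_autP1`: two distinct rational points of the projective line are moved to two given distinct ones by an
  automorphism.
-/

set_option backward.isDefEq.respectTransparency false
set_option autoImplicit false

universe u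

open CategoryTheory CategoryTheory.Limits AlgebraicGeometry MvPolynomial HomogeneousLocalization
open GrothLib.Ample.ProjMap

noncomputable section

namespace GrothLib.EssDim.P1

variable {L : Type u} [Field L]

local notation "P" => CohB1.polyGrading 1 L
local notation "S₀" => Spec (CommRingCat.of L)

/-- The constants among the global functions of `Spec L`. -/
abbrev Γc : L →+* Γ(Spec (CommRingCat.of L), ⊤) := (Scheme.ΓSpecIso (CommRingCat.of L)).inv.hom

theorem toSpecΓ_inv : (Spec (CommRingCat.of L)).toSpecΓ ≫ Spec.map (CommRingCat.ofHom (Γc (L := L))) = 𝟙 _ := by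
  change (Spec (CommRingCat.of L)).toSpecΓ ≫ Spec.map (Scheme.ΓSpecIso (CommRingCat.of L)).inv = _
  rw [← SpecMap_ΓSpecIso_hom, ← Spec.map_comp, Iso.inv_hom_id, Spec.map_id]

/-- Evaluation at a vector. -/
abbrev ev (v : Fin 2 → L) : MvPolynomial (Fin 2) L →+* Γ(Spec (CommRingCat.of L), ⊤) :=
  Γc.comp (MvPolynomial.eval v)

theorem isUnit_ev {v : Fin 2 → L} {a : MvPolynomial (Fin 2) L} (h : MvPolynomial.eval v a ≠ 0) :
    IsUnit (ev v a) :=
  (IsUnit.mk0 _ h).map Γc

theorem isUnit_ev_X {v : Fin 2 → L} {i : Fin 2} (h : v i ≠ 0) : IsUnit (ev v (X i)) :=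
  isUnit_ev (by rwa [MvPolynomial.eval_X])

/-- The point with homogeneous coordinates `v`, in the chart `i`. -/
def cpt (v : Fin 2 → L) (i : Fin 2) (h : v i ≠ 0) : S₀ ⟶ CohB1.ProjSpace 1 L :=
  ProjPt.pt P (X_mem i) one_pos (ProjPt.evalAway P (ev v) (X i) (isUnit_ev_X h))

theorem cpt_eq (v : Fin 2 → L) (i j : Fin 2) (hi : v i ≠ 0) (hj : v j ≠ 0) : cpt v i hi = cpt v j hj :=
  ProjPt.pt_evalAway_eq P (X_mem i) one_pos (ev v) (isUnit_ev_X hi) (X_mem j) one_pos (isUnit_ev_X hj)

theorem eval_smul_of_homogeneous {m : ℕ} {a : MvPolynomial (Fin 2) L} (ha : a.IsHomogeneous m) (c : L)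
    (v : Fin 2 → L) : MvPolynomial.eval (c • v) a = c ^ m * MvPolynomial.eval v a := by
  rw [MvPolynomial.eval_eq, MvPolynomial.eval_eq, Finset.mul_sum]
  refine Finset.sum_congr rfl fun d hd => ?_
  have hdeg : ∑ i ∈ d.support, d i = m := by
    have := ha (MvPolynomial.mem_support_iff.1 hd)
    simpa [Finsupp.weight_apply, Finsupp.sum] using this
  simp only [Pi.smul_apply, smul_eq_mul, mul_pow, Finset.prod_mul_distrib, Finset.prod_pow_eq_pow_sum, hdeg]
  ring

theorem cpt_smul (v : Fin 2 → L) (i : Fin 2) (c : L) (hi : v i ≠ 0) (hci : (c • v) i ≠ 0) :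
    cpt (c • v) i hci = cpt v i hi := by
  refine congrArg (ProjPt.pt P (X_mem i) one_pos) ?_
  refine ProjPt.evalAway_eq_of_twist P (ev v) (ev (c • v)) (X_mem i) _ _ (Γc c) fun m a ha => ?_
  change Γc (MvPolynomial.eval (c • v) a) = Γc c ^ m * Γc (MvPolynomial.eval v a)
  rw [eval_smul_of_homogeneous ha, map_mul, map_pow]

theorem evalAway_ev_cst (v : Fin 2 → L) (i : Fin 2) (h : v i ≠ 0) :
    (ProjPt.evalAway P (ev v) (X i) (isUnit_ev_X h)).comp (cst (X i)) = Γc := by
  refine RingHom.ext fun r => ?_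
  rw [RingHom.comp_apply, evalAway_cst]
  change Γc (MvPolynomial.eval v (C r)) = Γc r
  rw [MvPolynomial.eval_C]

theorem cpt_toSpec (v : Fin 2 → L) (i : Fin 2) (h : v i ≠ 0) :
    cpt v i h ≫ CohB1.ProjSpace.toSpec 1 L = 𝟙 _ := by
  refine (pt_toSpec i _).trans ?_
  rw [evalAway_ev_cst v i h]
  exact toSpecΓ_inv

/-- Every rational point has homogeneous coordinates. -/
theorem exists_cpt (u : S₀ ⟶ CohB1.ProjSpace 1 L) (hu : u ≫ CohB1.ProjSpace.toSpec 1 L = 𝟙 _) :
    ∃ (v : Fin 2 → L) (i : Fin 2) (h : v i ≠ 0), u = cpt v i h := by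
  obtain ⟨i, hi⟩ : ∃ i : Fin 2, u (IsLocalRing.closedPoint L) ∈ Proj.basicOpen P (X i) := by
    have h : u (IsLocalRing.closedPoint L) ∈ ⨆ i : Fin 2, Proj.basicOpen P (X i) := by
      rw [iSup_basicOpen_X]; trivial
    exact TopologicalSpace.Opens.mem_iSup.1 h
  obtain ⟨g, rfl⟩ := ProjPt.exists_eq_pt P (X_mem i) one_pos u (top_le_iff.1 fun z _ => by
    rw [Subsingleton.elim (α := PrimeSpectrum L) z (IsLocalRing.closedPoint L)]
    exact hi)
  have hc : g.comp (cst (X i)) = Γc := by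
    rw [pt_toSpec] at hu
    suffices e : CommRingCat.ofHom (g.comp (cst (X i))) = CommRingCat.ofHom Γc from
      congrArg CommRingCat.Hom.hom e
    refine @ProjPt.toSpecΓ_comp_SpecMap_injective (Spec (CommRingCat.of L)) (CommRingCat.of L) _ _ ?_
    rw [hu]
    exact (toSpecΓ_inv).symm
  let v : Fin 2 → L := fun j => (Scheme.ΓSpecIso (CommRingCat.of L)).hom.hom (g (ratio i j))
  have hv : ∀ j, Γc (v j) = g (ratio i j) := fun j => by
    change ((Scheme.ΓSpecIso (CommRingCat.of L)).hom ≫ (Scheme.ΓSpecIso (CommRingCat.of L)).inv).hom _ = _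
    rw [Iso.hom_inv_id]
    rfl
  have hii : ratio (R := L) i i = 1 := by
    apply HomogeneousLocalization.val_injective
    rw [ratio, Away.val_mk, HomogeneousLocalization.val_one, Localization.mk_eq_mk',
      IsLocalization.mk'_eq_iff_eq_mul]
    simp
  have hvi : v i = 1 := by
    simp only [v, hii, map_one]
  have hne : v i ≠ 0 := by rw [hvi]; exact one_ne_zero
  refine ⟨v, i, hne, congrArg (ProjPt.pt P (X_mem i) one_pos) (awayHom_ext ?_ fun k => ?_)⟩
  · rw [hc, evalAway_ev_cst v i hne]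
  · have h := ProjPt.evalAway_mk_spec P (ev v) (X_mem i) (isUnit_ev_X hne) 1 (X k) (by simpa using X_mem k)
    simp only [ev, RingHom.comp_apply, MvPolynomial.eval_X, hvi, map_one, pow_one, mul_one] at h
    rw [← hv k]
    exact h.symm

theorem cpt_mem_iff (v : Fin 2 → L) (i : Fin 2) (h : v i ≠ 0) (j : Fin 2) :
    cpt v i h (IsLocalRing.closedPoint L) ∈ Proj.basicOpen P (X j) ↔ v j ≠ 0 := by
  have e := ProjPt.pt_evalAway_preimage_basicOpen P (X_mem i) one_pos (ev v) (isUnit_ev_X h) (X_mem j) one_pos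
  change IsLocalRing.closedPoint L ∈ cpt v i h ⁻¹ᵁ Proj.basicOpen P (X j) ↔ _
  rw [cpt, e]
  simp only [ev, RingHom.comp_apply, MvPolynomial.eval_X]
  constructor
  · intro hm hj
    rw [hj, map_zero, Scheme.basicOpen_zero] at hm
    exact hm
  · intro hj
    rw [Scheme.basicOpen_of_isUnit _ ((IsUnit.mk0 _ hj).map Γc)]
    trivial

/-! ### Linear substitutions -/

/-- A linear substitution. -/
def subst (M : Matrix (Fin 2) (Fin 2) L) : MvPolynomial (Fin 2) L →ₐ[L] MvPolynomial (Fin 2) L :=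
  aeval fun j => ∑ l, C (M j l) * X l

theorem subst_X (M : Matrix (Fin 2) (Fin 2) L) (j : Fin 2) : subst M (X j) = ∑ l, C (M j l) * X l :=
  aeval_X _ _

theorem subst_subst (M N : Matrix (Fin 2) (Fin 2) L) (a : MvPolynomial (Fin 2) L) :
    subst N (subst M a) = subst (M * N) a := by
  have h : (subst N).comp (subst M) = subst (M * N) := by
    refine MvPolynomial.algHom_ext fun j => ?_
    rw [AlgHom.comp_apply, subst_X, map_sum, subst_X]
    simp only [map_mul, subst_X, MvPolynomial.algHom_C, Matrix.mul_apply, map_sum, Finset.mul_sum,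
      Finset.sum_mul]
    rw [Finset.sum_comm]
    refine Finset.sum_congr rfl fun l _ => Finset.sum_congr rfl fun m _ => ?_
    rw [MvPolynomial.algebraMap_eq]
    ring
  rw [← h]; rfl

theorem subst_one (a : MvPolynomial (Fin 2) L) : subst 1 a = a := by
  have h : subst (1 : Matrix (Fin 2) (Fin 2) L) = AlgHom.id L _ := by
    refine MvPolynomial.algHom_ext fun j => ?_
    rw [subst_X, Finset.sum_eq_single j (fun l _ hl => by simp [Matrix.one_apply_ne (Ne.symm hl)])
      (fun h => absurd (Finset.mem_univ j) h)]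
    simp
  rw [h]; rfl

theorem subst_mem (M : Matrix (Fin 2) (Fin 2) L) {m : ℕ} {a : MvPolynomial (Fin 2) L} (ha : a ∈ P m) :
    subst M a ∈ P m := by
  have h := MvPolynomial.IsHomogeneous.aeval (S := L) (m := m) (n := 1) ha (fun j => ∑ l, C (M j l) * X l)
    (fun j => IsHomogeneous.sum _ _ _ fun l _ => isHomogeneous_C_mul_X _ _)
  rw [one_mul] at h
  exact h

/-- A linear substitution as a graded homomorphism. -/
def substG (M : Matrix (Fin 2) (Fin 2) L) : P →+*ᵍ P :=
  { (subst M).toRingHom with map_mem := fun h => subst_mem M h }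

theorem substG_apply (M : Matrix (Fin 2) (Fin 2) L) (a : MvPolynomial (Fin 2) L) : substG M a = subst M a := rfl

variable {M N : Matrix (Fin 2) (Fin 2) L}

theorem irrelevant_le (hNM : N * M = 1) :
    HomogeneousIdeal.irrelevant P ≤ (HomogeneousIdeal.irrelevant P).map (substG M) := by
  change (HomogeneousIdeal.irrelevant P).toIdeal ≤ ((HomogeneousIdeal.irrelevant P).map (substG M)).toIdeal
  refine (HomogeneousIdeal.toIdeal_irrelevant_le _).2 fun i hi x hx => ?_
  have h : x = substG M (subst N x) := by rw [substG_apply, subst_subst, hNM, subst_one]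
  rw [h]
  exact Ideal.mem_map_of_mem _ (HomogeneousIdeal.mem_irrelevant_of_mem _ hi (subst_mem N hx))

/-- The automorphism of a linear substitution. -/
def lmap (hNM : N * M = 1) : CohB1.ProjSpace 1 L ⟶ CohB1.ProjSpace 1 L :=
  Proj.map (substG M) (irrelevant_le hNM)

theorem isIso_lmap (hNM : N * M = 1) (hMN : M * N = 1) : IsIso (lmap hNM) := by
  refine GradedAlg.isIso_map (substG M) (irrelevant_le hNM) fun n _ => ⟨fun a ha => subst_mem M ha, ?_, ?_⟩
  · intro a _ b _ e
    have := congrArg (subst N) e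
    simpa [substG_apply, subst_subst, hMN, subst_one] using this
  · intro a ha
    exact ⟨subst N a, subst_mem N ha, by rw [substG_apply, subst_subst, hNM, subst_one]⟩

theorem lmap_toSpec (hNM : N * M = 1) :
    lmap hNM ≫ CohB1.ProjSpace.toSpec 1 L = CohB1.ProjSpace.toSpec 1 L := by
  refine (Proj.mapAffineOpenCover (substG M) (irrelevant_le hNM)).openCover.hom_ext _ _ fun s => ?_
  change Proj.awayι P (substG M (s.2 : MvPolynomial (Fin 2) L)) _ _ ≫ _ = Proj.awayι P (substG M (s.2 : MvPolynomial (Fin 2) L)) _ _ ≫ _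
  unfold lmap CohB1.ProjSpace.toSpec
  rw [Proj.awayι_comp_map_assoc (substG M) (irrelevant_le hNM) s.1.2 _ s.2.2,
    Proj.awayι_toSpecZero_assoc, Proj.awayι_toSpecZero_assoc, ← Spec.map_comp, ← Spec.map_comp, ← Spec.map_comp,
    ← CommRingCat.ofHom_comp, ← CommRingCat.ofHom_comp, ← CommRingCat.ofHom_comp]
  congr 2
  refine RingHom.ext fun r => ?_
  apply HomogeneousLocalization.val_injective
  simp only [RingHom.comp_apply]
  change (Away.map (substG M) (s.2 : MvPolynomial (Fin 2) L) (Away.mk P s.2.2 0 (C r) (by rw [zero_smul]; exact isHomogeneous_C _ r))).val =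
    (Away.mk P ((substG M).map_mem s.2.2) 0 (C r) (by rw [zero_smul]; exact isHomogeneous_C _ r)).val
  rw [Away.map_mk]
  simp [substG_apply, subst]

theorem cpt_lmap (hNM : N * M = 1) (v : Fin 2 → L) (i j : Fin 2) (hi : v i ≠ 0) (hj : M.mulVec v j ≠ 0) :
    cpt v i hi ≫ lmap hNM = cpt (M.mulVec v) j hj := by
  have hev : (ev v).comp (subst M).toRingHom = ev (M.mulVec v) := by
    refine MvPolynomial.ringHom_ext (fun r => ?_) fun l => ?_
    · simp [ev, subst]
    · change Γc (MvPolynomial.eval v (subst M (X l))) = Γc (MvPolynomial.eval (M.mulVec v) (X l))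
      rw [subst_X, map_sum, MvPolynomial.eval_X]
      simp [Matrix.mulVec, dotProduct]
  have hu : IsUnit (ev v (substG M (X j))) := by
    rw [show ev v (substG M (X j)) = ev (M.mulVec v) (X j) from RingHom.congr_fun hev _]
    exact isUnit_ev_X hj
  rw [cpt, ProjPt.pt_evalAway_eq P (X_mem i) one_pos (ev v) (isUnit_ev_X hi) (y := substG M (X j))
    ((substG M).map_mem (X_mem j)) one_pos hu, lmap, cpt, ProjPt.pt, ProjPt.pt, Category.assoc, Category.assoc,
    Proj.awayι_comp_map (substG M) (irrelevant_le hNM) one_pos _ (X_mem j), ← Spec.map_comp_assoc,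
    ← CommRingCat.ofHom_comp]
  congr 3
  congr 1
  refine RingHom.ext fun z => ?_
  obtain ⟨m, a, ha, rfl⟩ := Away.mk_surjective P (X_mem j) z
  have hj' := isUnit_ev_X hj
  refine (hj'.pow m).mul_left_injective ?_
  dsimp only
  rw [ProjPt.evalAway_mk_spec P (ev (M.mulVec v)) (X_mem j) hj' m a ha, RingHom.comp_apply, Away.map_mk,
    ← RingHom.congr_fun hev (X j)]
  exact (ProjPt.evalAway_mk_spec P (ev v) ((substG M).map_mem (X_mem j)) hu m _ _).trans (RingHom.congr_fun hev a)

/-- The two coordinate points. -/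
def stdPt (i : Fin 2) : S₀ ⟶ CohB1.ProjSpace 1 L :=
  cpt (Pi.single i 1) i (by simp)

theorem stdPt_toSpec (i : Fin 2) : stdPt (L := L) i ≫ CohB1.ProjSpace.toSpec 1 L = 𝟙 _ := cpt_toSpec _ _ _

theorem stdPt_ne {i j : Fin 2} (h : i ≠ j) :
    stdPt (L := L) i (IsLocalRing.closedPoint L) ≠ stdPt j (IsLocalRing.closedPoint L) := by
  intro e
  have h1 := (cpt_mem_iff (L := L) (Pi.single i 1) i (by simp) i).2 (by simp)
  rw [show cpt (Pi.single i 1) i _ (IsLocalRing.closedPoint L) = _ from e] at h1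
  have := (cpt_mem_iff (L := L) (Pi.single j 1) j (by simp) i).1 h1
  exact this (by simp [Pi.single_eq_of_ne h])

/-- Two distinct rational points are the coordinate points up to an automorphism. -/
theorem exists_aut_std (u₀ u₁ : S₀ ⟶ CohB1.ProjSpace 1 L)
    (h₀ : u₀ ≫ CohB1.ProjSpace.toSpec 1 L = 𝟙 _) (h₁ : u₁ ≫ CohB1.ProjSpace.toSpec 1 L = 𝟙 _)
    (hne : u₀ (IsLocalRing.closedPoint L) ≠ u₁ (IsLocalRing.closedPoint L)) :
    ∃ e : CohB1.ProjSpace 1 L ≅ CohB1.ProjSpace 1 L,
      e.hom ≫ CohB1.ProjSpace.toSpec 1 L = CohB1.ProjSpace.toSpec 1 L ∧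
      u₀ ≫ e.hom = stdPt 0 ∧ u₁ ≫ e.hom = stdPt 1 := by
  obtain ⟨v, i, hi, rfl⟩ := exists_cpt u₀ h₀
  obtain ⟨w, j, hj, rfl⟩ := exists_cpt u₁ h₁
  let B : Matrix (Fin 2) (Fin 2) L := !![v 0, w 0; v 1, w 1]
  have hB : IsUnit B.det := by
    rw [isUnit_iff_ne_zero, Matrix.det_fin_two_of]
    intro h
    apply hne
    have hwi : w i ≠ 0 := by
      intro hwi
      fin_cases i <;> fin_cases j <;> simp only [Fin.zero_eta, Fin.mk_one, Fin.isValue] at hi hj hwi <;>
        first | exact hj hwi | (simp only [hwi] at h; simp_all)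
    have he : (w i / v i) • v = w := by
      funext l
      fin_cases i <;> fin_cases l <;> simp at hi hwi ⊢ <;> field_simp <;> first | linear_combination h | linear_combination -h
    have hci : ((w i / v i) • v) i ≠ 0 := by rw [he]; exact hwi
    have key : ∀ (x : Fin 2 → L) (hx : x i ≠ 0), x = w → cpt x i hx = cpt w i hwi := fun x hx e => by
      subst e; rfl
    rw [← cpt_smul v i (w i / v i) hi hci, key _ hci he, cpt_eq w i j hwi hj]
  have hNM : B * B⁻¹ = 1 := Matrix.mul_nonsing_inv B hB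
  have hMN : B⁻¹ * B = 1 := Matrix.nonsing_inv_mul B hB
  haveI := isIso_lmap hNM hMN
  have h0 : B.mulVec (Pi.single 0 1) = v := by
    funext l; fin_cases l <;> simp [B, Matrix.mulVec, dotProduct, Fin.sum_univ_two]
  have h1 : B.mulVec (Pi.single 1 1) = w := by
    funext l; fin_cases l <;> simp [B, Matrix.mulVec, dotProduct, Fin.sum_univ_two]
  have g0 : B⁻¹.mulVec v = Pi.single 0 1 := by
    rw [← h0, Matrix.mulVec_mulVec, hMN, Matrix.one_mulVec]
  have g1 : B⁻¹.mulVec w = Pi.single 1 1 := by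
    rw [← h1, Matrix.mulVec_mulVec, hMN, Matrix.one_mulVec]
  have key : ∀ (x y : Fin 2 → L) (l : Fin 2) (hx : x l ≠ 0) (hy : y l ≠ 0), x = y → cpt x l hx = cpt y l hy :=
    fun x y l hx hy e => by subst e; rfl
  refine ⟨asIso (lmap hNM), lmap_toSpec hNM, ?_, ?_⟩
  · rw [asIso_hom, cpt_lmap hNM v i 0 hi (by rw [g0]; simp)]
    exact key _ _ _ _ _ g0
  · rw [asIso_hom, cpt_lmap hNM w j 1 hj (by rw [g1]; simp)]
    exact key _ _ _ _ _ g1

/-- Two pairs of distinct rational points differ by an automorphism. -/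
theorem exists_autP1 (u w : Fin 2 → (S₀ ⟶ CohB1.ProjSpace 1 L))
    (hu : ∀ i, u i ≫ CohB1.ProjSpace.toSpec 1 L = 𝟙 _) (hw : ∀ i, w i ≫ CohB1.ProjSpace.toSpec 1 L = 𝟙 _)
    (hne : u 0 (IsLocalRing.closedPoint L) ≠ u 1 (IsLocalRing.closedPoint L))
    (hne' : w 0 (IsLocalRing.closedPoint L) ≠ w 1 (IsLocalRing.closedPoint L)) :
    ∃ e : CohB1.ProjSpace 1 L ≅ CohB1.ProjSpace 1 L,
      e.hom ≫ CohB1.ProjSpace.toSpec 1 L = CohB1.ProjSpace.toSpec 1 L ∧ ∀ i, u i ≫ e.hom = w i := by
  obtain ⟨e, he, e0, e1⟩ := exists_aut_std (u 0) (u 1) (hu 0) (hu 1) hne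
  obtain ⟨f, hf, f0, f1⟩ := exists_aut_std (w 0) (w 1) (hw 0) (hw 1) hne'
  refine ⟨e ≪≫ f.symm, ?_, fun i => ?_⟩
  · rw [Iso.trans_hom, Iso.symm_hom, Category.assoc, (Iso.inv_comp_eq f).2 hf.symm, he]
  · fin_cases i
    · simp only [Fin.zero_eta, Iso.trans_hom, Iso.symm_hom]
      rw [reassoc_of% e0, ← f0, Category.assoc, Iso.hom_inv_id, Category.comp_id]
    · simp only [Fin.mk_one, Iso.trans_hom, Iso.symm_hom]
      rw [reassoc_of% e1, ← f1, Category.assoc, Iso.hom_inv_id, Category.comp_id]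

end GrothLib.EssDim.P1
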