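import Groth.Prelude.Def_EssDim
import Groth.Prelude.Def_StCurv
import Groth.Agent.Lib.EssDim.P1Points
import Groth.Agent.Lib.ProjPic26.Over
import Groth.Agent.Lib.ProjCohom.Corollaries
import Groth.Agent.Lib.CurveMult.BaseChangeH
import Groth.Agent.Lib.CurveMult.GenusZero
import Groth.Agent.Lib.CurveMult.SepRat
import Groth.Agent.Lib.CurveMult.ProjSmooth
import Groth.Agent.Lib.CurveRR.Setup
import Groth.Agent.Lib.Dim.Scheme
import Groth.Agent.Lib.RedSmooth.Basic

/-!
# Essential dimension of the stacks of pointed curves of genus zero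
-/

set_option backward.isDefEq.respectTransparency false
set_option autoImplicit false

universe u

open CategoryTheory CategoryTheory.Limits AlgebraicGeometry

noncomputable section

namespace GrothLib.EssDim

/-- Change of the base field of the projective line. -/
theorem exists_bcP1 {F L : Type u} [Field F] [Field L] (f : F →+* L) :
    ∃ ω : CohB1.ProjSpace 1 L ⟶ CohB1.ProjSpace 1 F,
      IsPullback ω (CohB1.ProjSpace.toSpec 1 L) (CohB1.ProjSpace.toSpec 1 F)
        (Spec.map (CommRingCat.ofHom f)) := by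
  have hL := ProjPic26.isPullback_chi 1 L
  have hF := ProjPic26.isPullback_chi 1 F
  let ω := hF.lift (ProjPic26.chi 1 L) (CohB1.ProjSpace.toSpec 1 L ≫ Spec.map (CommRingCat.ofHom f))
    (specULiftZIsTerminal.hom_ext _ _)
  refine ⟨ω, IsPullback.of_right ?_ (hF.lift_snd _ _ _) hF⟩
  rw [hF.lift_fst, specULiftZIsTerminal.hom_ext (Spec.map (CommRingCat.ofHom f) ≫ specULiftZIsTerminal.from _)
    (specULiftZIsTerminal.from _)]
  exact hL

theorem isCurveOfGenus_P1 (F : Type u) [Field F] :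
    ModFun.IsCurveOfGenus 0 (CohB1.ProjSpace.toSpec 1 F) := by
  refine ⟨CurveMult.smooth_toSpec 1 F, Chow.isProper_toSpec 1 F, ?_, ?_⟩
  · rw [GeometricallyIrreducible.eq_geometrically]
    intro K _ y Z fst snd h
    obtain ⟨f, rfl⟩ := Spec.map_surjective y
    obtain ⟨ω, hω⟩ := exists_bcP1 f.hom
    haveI : IsIntegral (CohB1.ProjSpace 1 K) := ProjDim.isIntegral_proj K 1
    haveI : Nonempty Z := ⟨(hω.isoIsPullback _ _ h).hom (Classical.arbitrary (CohB1.ProjSpace 1 K))⟩
    haveI : IsIntegral Z := isIntegral_of_isOpenImmersion (hω.isoIsPullback _ _ h).inv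
    infer_instance
  · intro Ω _ _ t X i q h
    obtain ⟨f, rfl⟩ := Spec.map_surjective t
    obtain ⟨ω, hω⟩ := exists_bcP1 f.hom
    let e := hω.isoIsPullback _ _ h
    have he : e.hom ≫ q = CohB1.ProjSpace.toSpec 1 Ω := hω.isoIsPullback_hom_snd _ _ h
    refine ⟨?_, ?_⟩
    · rw [← IsHomeomorph.topologicalKrullDim_eq _ (Scheme.homeoOfIso e).isHomeomorph]
      exact_mod_cast Groth.Agent.S10829.result Ω 1
    · letI : X.Over (Spec (CommRingCat.of Ω)) := ⟨q⟩
      letI : (CohB1.ProjSpace 1 Ω).Over (Spec (CommRingCat.of Ω)) := ⟨CohB1.ProjSpace.toSpec 1 Ω⟩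
      haveI : IsProper (CohB1.ProjSpace.toSpec 1 Ω) := Chow.isProper_toSpec 1 Ω
      haveI : IsSeparated ((CohB1.ProjSpace 1 Ω) ↘ Spec (CommRingCat.of Ω)) :=
        inferInstanceAs (IsSeparated (CohB1.ProjSpace.toSpec 1 Ω))
      haveI : QuasiCompact ((CohB1.ProjSpace 1 Ω) ↘ Spec (CommRingCat.of Ω)) :=
        inferInstanceAs (QuasiCompact (CohB1.ProjSpace.toSpec 1 Ω))
      have hsq : IsPullback e.inv (X ↘ Spec (CommRingCat.of Ω)) ((CohB1.ProjSpace 1 Ω) ↘ Spec (CommRingCat.of Ω))
          (Spec.map (CommRingCat.ofHom (RingHom.id Ω))) := by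
        haveI : IsIso (Spec.map (CommRingCat.ofHom (RingHom.id Ω))) := by
          rw [CommRingCat.ofHom_id]; infer_instance
        refine IsPullback.of_horiz_isIso ⟨?_⟩
        show e.inv ≫ CohB1.ProjSpace.toSpec 1 Ω = q ≫ Spec.map (CommRingCat.ofHom (RingHom.id Ω))
        rw [← he, e.inv_hom_id_assoc, CommRingCat.ofHom_id, Spec.map_id, Category.comp_id]
      rw [Euler.genus_def, CurveMult.finrank_HH_structure_baseChange (RingHom.id Ω) e.inv hsq 1]
      haveI := ProjCohom.subsingleton_HH_structure (n := 1) (R := Ω) (q := 1) one_pos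
      exact Module.finrank_zero_of_subsingleton

/-- A curve of genus zero with a rational point is the projective line. -/
theorem exists_iso_P1_of_isCurveOfGenus {L : Type u} [Field L] {C : Scheme.{u}} (f : C ⟶ Spec (CommRingCat.of L))
    (hf : ModFun.IsCurveOfGenus 0 f) (s : Spec (CommRingCat.of L) ⟶ C) (hs : s ≫ f = 𝟙 _) :
    ∃ e : C ≅ CohB1.ProjSpace 1 L, e.hom ≫ CohB1.ProjSpace.toSpec 1 L = f := by
  obtain ⟨hsm, hpr, hgi, hfib⟩ := hf
  letI : C.Over (Spec (CommRingCat.of L)) := ⟨f⟩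
  haveI : Smooth f := hsm
  haveI : IsProper f := hpr
  haveI : GeometricallyIrreducible f := hgi
  haveI : IsProper (C ↘ Spec (CommRingCat.of L)) := hpr
  haveI : IsLocallyNoetherian C := LocallyOfFiniteType.isLocallyNoetherian f
  haveI : IsReduced C := RedSmooth.isReduced_of_smooth f
  haveI : IrreducibleSpace C := hgi.geometrically_irreducibleSpace (𝟙 (Spec (CommRingCat.of L))) (𝟙 C) f
    (IsPullback.of_horiz_isIso ⟨by simp⟩)
  haveI : IsIntegral C := isIntegral_of_irreducibleSpace_of_isReduced C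
  let K := AlgebraicClosure L
  let φ := Spec.map (CommRingCat.ofHom (algebraMap L K))
  let X' := Limits.pullback φ f
  letI : X'.Over (Spec (CommRingCat.of K)) := ⟨Limits.pullback.fst φ f⟩
  have H : IsPullback (Limits.pullback.snd φ f) (X' ↘ Spec (CommRingCat.of K)) f φ :=
    (IsPullback.of_hasPullback φ f).flip
  obtain ⟨hd', hg'⟩ := hfib K φ X' (Limits.pullback.snd φ f) (Limits.pullback.fst φ f) H
  haveI : IrreducibleSpace X' := hgi.geometrically_irreducibleSpace _ _ _ H
  have hdim : topologicalKrullDim C = 1 := by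
    have huniv : (Set.univ : Set ↥X') ∈ irreducibleComponents ↥X' := by
      rw [irreducibleComponents_eq_singleton]; rfl
    have h := GrothLib.Dim.topologicalKrullDim_component_pullback f _ huniv
    rw [← h]
    exact (IsHomeomorph.topologicalKrullDim_eq _ (Homeomorph.Set.univ ↥X').isHomeomorph).trans hd'
  have hg : Subsingleton (Coh.HH C (Coh.structureModule C) 1) := by
    haveI := GrothLib.Euler.finiteDimensional_HH (X := C) L
      (GrothLib.Euler.isCoh_of_isInvertible GrothLib.Euler.isInvertible_structure) 1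
    refine (Module.finrank_zero_iff (R := L)).1 ?_
    rw [← GrothLib.CurveMult.finrank_HH_structure_baseChange (algebraMap L K) _ H 1]
    rw [Euler.genus_def] at hg'
    exact hg'
  let z : ↥(Spec (CommRingCat.of L)) := IsLocalRing.closedPoint L
  haveI : IsClosedImmersion (s ≫ f) := by rw [hs]; infer_instance
  haveI : IsClosedImmersion s := .of_comp s f
  haveI : Subsingleton ↥(Spec (CommRingCat.of L)) := inferInstanceAs (Subsingleton (PrimeSpectrum L))
  have hxc : IsClosed ({s z} : Set C) := by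
    have := s.isClosedEmbedding.isClosedMap _ (isClosed_discrete {z})
    rwa [Set.image_singleton] at this
  have hxη : s z ≠ genericPoint C := fun h => GrothLib.CurvePoints.genericPoint_not_isClosed hdim (h ▸ hxc)
  haveI hr : IsRegularLocalRing (C.presheaf.stalk (s z)) :=
    GrothLib.GrpSchField.isRegularLocalRing_stalk_of_smooth f hxc
  have hp : (IsLocalRing.maximalIdeal (C.presheaf.stalk (s z))).IsPrincipal := by
    have h1 := (IsRegularLocalRing.spanFinrank_maximalIdeal (R := C.presheaf.stalk (s z))).trans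
      (GrothLib.CurvePoints.ringKrullDim_stalk hdim.le hxη)
    have h2 : (IsLocalRing.maximalIdeal (C.presheaf.stalk (s z))).spanFinrank = 1 := by exact_mod_cast h1
    have hfg : (IsLocalRing.maximalIdeal (C.presheaf.stalk (s z))).FG := IsNoetherian.noetherian _
    obtain ⟨a, ha⟩ := Set.ncard_eq_one.1 ((Submodule.FG.generators_ncard hfg).trans h2)
    exact ⟨⟨a, by rw [← ha, Submodule.span_generators]⟩⟩
  obtain ⟨M, hM, hd, -⟩ := GrothLib.CurveMult.exists_point_bundle_deg L hdim.le hxη hp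
  letI := Curv2.resAlgebra L C (s z)
  have hb := GrothLib.CurveMult.bijective_resMap_of_section L s hs z
  have e : L ≃ₗ[L] (C.residueField (s z) : Type u) := LinearEquiv.ofBijective (Algebra.linearMap L _) hb
  rw [← e.finrank_eq, Module.finrank_self, Nat.cast_one] at hd
  exact GrothLib.CurveMult.exists_iso_P1 L hdim hg hM hd

variable {k : Type u} [Field k]

local notation "pt'" => SGA7.pt (K := k)

/-- The standard pointed projective line over a field. -/
def stdP1 (F : Type u) [Field F] [Algebra k F] {n : ℕ} (emb : Fin n → Fin 2) :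
    CurvSt.PtFamObj (Spec (CommRingCat.of k)) n where
  base := pt' F
  C := CohB1.ProjSpace 1 F
  f := CohB1.ProjSpace.toSpec 1 F
  sect i := P1.stdPt (emb i)
  sect_f _ := P1.stdPt_toSpec _

theorem isSmoothPtdFam_stdP1 (F : Type u) [Field F] [Algebra k F] {n : ℕ} (emb : Fin n → Fin 2)
    (hemb : Function.Injective emb) :
    CurvSt.IsSmoothPtdFam (stdP1 (k := k) F emb).f (stdP1 (k := k) F emb).sect 0 := by
  refine ⟨isCurveOfGenus_P1 F, fun i j hij c h => ?_⟩
  have hc : c = IsLocalRing.closedPoint F := Subsingleton.elim (α := PrimeSpectrum F) _ _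
  subst hc
  exact P1.stdPt_ne (fun e => hij (hemb e)) h

theorem exists_hom_std {L F : Type u} [Field L] [Field F] [Algebra k L] [Algebra k F] (f : F →ₐ[k] L)
    {n : ℕ} (hn : 0 < n) (emb : Fin n → Fin 2) (hemb : Function.Injective emb)
    (C : Scheme.{u}) (p : C ⟶ Spec (CommRingCat.of L)) (σ : Fin n → (Spec (CommRingCat.of L) ⟶ C))
    (hσ : ∀ i, σ i ≫ p = 𝟙 _) (hC : CurvSt.IsSmoothPtdFam p σ 0) :
    ∃ φ : C ⟶ CohB1.ProjSpace 1 F,
      IsPullback φ p (CohB1.ProjSpace.toSpec 1 F) (_root_.EssDim.resPt f).left ∧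
      ∀ i, σ i ≫ φ = (_root_.EssDim.resPt f).left ≫ P1.stdPt (emb i) := by
  obtain ⟨e, he⟩ := exists_iso_P1_of_isCurveOfGenus p hC.1 (σ ⟨0, hn⟩) (hσ _)
  obtain ⟨ω, hω⟩ := exists_bcP1 (f : F →+* L)
  let t : Fin 2 → (Spec (CommRingCat.of L) ⟶ CohB1.ProjSpace 1 L) := fun j =>
    hω.lift (Spec.map (CommRingCat.ofHom (f : F →+* L)) ≫ P1.stdPt j) (𝟙 _) (by
      rw [Category.assoc, P1.stdPt_toSpec, Category.comp_id, Category.id_comp])
  have ht : ∀ j, t j ≫ CohB1.ProjSpace.toSpec 1 L = 𝟙 _ := fun j => hω.lift_snd _ _ _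
  have htω : ∀ j, t j ≫ ω = Spec.map (CommRingCat.ofHom (f : F →+* L)) ≫ P1.stdPt j := fun j => hω.lift_fst _ _ _
  have htne : t 0 (IsLocalRing.closedPoint L) ≠ t 1 (IsLocalRing.closedPoint L) := fun h => by
    have h' := congrArg ω.base h
    rw [← Scheme.Hom.comp_apply, ← Scheme.Hom.comp_apply, htω, htω, Scheme.Hom.comp_apply, Scheme.Hom.comp_apply] at h'
    rw [show (Spec.map (CommRingCat.ofHom (f : F →+* L))) (IsLocalRing.closedPoint L) = IsLocalRing.closedPoint F from
      Subsingleton.elim (α := PrimeSpectrum F) _ _] at h'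
    exact P1.stdPt_ne (L := F) (zero_ne_one) h'
  have hu : ∀ i, (σ i ≫ e.hom) ≫ CohB1.ProjSpace.toSpec 1 L = 𝟙 _ := fun i => by
    rw [Category.assoc, he, hσ]
  obtain ⟨u, hu₂, hune, huσ⟩ : ∃ u : Fin 2 → (Spec (CommRingCat.of L) ⟶ CohB1.ProjSpace 1 L),
      (∀ j, u j ≫ CohB1.ProjSpace.toSpec 1 L = 𝟙 _) ∧
      u 0 (IsLocalRing.closedPoint L) ≠ u 1 (IsLocalRing.closedPoint L) ∧ ∀ i, u (emb i) = σ i ≫ e.hom := by
    classical
    have hex : ∀ i₀ : Fin n, ∃ j : Fin 2, (σ i₀ ≫ e.hom) (IsLocalRing.closedPoint L) ≠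
        t j (IsLocalRing.closedPoint L) := fun i₀ => by
      by_contra h
      push Not at h
      exact htne ((h 0).symm.trans (h 1))
    obtain ⟨j₀, hj₀⟩ := hex ⟨0, hn⟩
    refine ⟨fun j => if h : ∃ i, emb i = j then σ h.choose ≫ e.hom else t j₀, fun j => ?_, ?_, fun i => ?_⟩
    · dsimp only
      split
      · exact hu _
      · exact ht j₀
    · have hinj : ∀ i i', i ≠ i' → (σ i ≫ e.hom) (IsLocalRing.closedPoint L) ≠
          (σ i' ≫ e.hom) (IsLocalRing.closedPoint L) := fun i i' hii h => by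
        rw [Scheme.Hom.comp_apply, Scheme.Hom.comp_apply] at h
        exact hC.2 i i' hii _ ((Scheme.homeoOfIso e).injective h)
      have hone : ∀ i, (∀ i', i' = i) → (σ i ≫ e.hom) (IsLocalRing.closedPoint L) ≠
          t j₀ (IsLocalRing.closedPoint L) := fun i hi => by rw [← hi ⟨0, hn⟩]; exact hj₀
      have hcard : ∀ (i : Fin n) (a : Fin 2), emb i ≠ a → (∀ i', emb i' ≠ a) → ∀ i', i' = i := fun i a ha hno i' =>
        hemb (by have := hno i'; omega)
      dsimp only
      split <;> rename_i h0 <;> split <;> rename_i h1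
      · refine hinj _ _ fun h => ?_
        have := congrArg emb h
        rw [h0.choose_spec, h1.choose_spec] at this
        exact zero_ne_one this
      · push Not at h1
        exact hone _ (hcard _ 1 (h1 _) h1)
      · push Not at h0
        exact (hone _ (hcard _ 0 (h0 _) h0)).symm
      · push Not at h0 h1
        rcases Fin.exists_fin_two.1 (⟨emb ⟨0, hn⟩, rfl⟩ : ∃ j, emb ⟨0, hn⟩ = j) with h | h
        exacts [absurd h (h0 _), absurd h (h1 _)]
    · dsimp only
      rw [dif_pos ⟨i, rfl⟩]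
      exact congrArg (σ · ≫ e.hom) (hemb (Exists.choose_spec (⟨i, rfl⟩ : ∃ i', emb i' = emb i)))
  obtain ⟨g, hg, hg'⟩ := P1.exists_autP1 u t hu₂ ht hune htne
  refine ⟨e.hom ≫ g.hom ≫ ω, ?_, fun i => ?_⟩
  · have hh : IsPullback (e ≪≫ g).hom p (CohB1.ProjSpace.toSpec 1 L) (𝟙 _) :=
      IsPullback.of_horiz_isIso ⟨by rw [Iso.trans_hom, Category.assoc, hg, he, Category.comp_id]⟩
    simpa using hh.paste_horiz hω
  · rw [← Category.assoc, ← huσ, ← Category.assoc, hg', htω]
    rfl

/-- The essential dimension of the stack of smooth pointed curves of genus zero with one or two points. -/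
theorem edSt_mgn_zero (n : ℕ) (hn : 0 < n) (hn2 : n ≤ 2)
    [_root_.FibCat.IsFibGrpd (CurvSt.Mgn (Spec (CommRingCat.of k)) 0 n).p] :
    _root_.EssDim.edSt (CurvSt.Mgn (Spec (CommRingCat.of k)) 0 n) = 0 := by
  let emb : Fin n → Fin 2 := Fin.castLE hn2
  have hemb : Function.Injective emb := Fin.castLE_injective hn2
  refine le_antisymm ?_ ?_
  · refine iSup_le fun L => iSup_le fun _ => iSup_le fun _ => iSup_le fun ξ => ?_
    induction ξ using Quot.ind with
    | mk x =>
      obtain ⟨⟨⟨bx, C, p, σ, hσ⟩, hC⟩, hx⟩ := x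
      obtain rfl : bx = pt' L := hx
      let F := (⊥ : IntermediateField k L)
      obtain ⟨φ, hφ, hφσ⟩ := exists_hom_std (k := k) F.val hn emb hemb C p σ hσ hC
      let x₀ : StkCnt.pts (CurvSt.Mgn (Spec (CommRingCat.of k)) 0 n) F :=
        ⟨⟨stdP1 F emb, isSmoothPtdFam_stdP1 F emb hemb⟩, rfl⟩
      let ψ₀ : (⟨pt' L, C, p, σ, hσ⟩ : CurvSt.PtFamObj (Spec (CommRingCat.of k)) n) ⟶ stdP1 F emb :=
        ⟨_root_.EssDim.resPt F.val, φ, hφ, hφσ⟩
      let X : (CurvSt.Mgn (Spec (CommRingCat.of k)) 0 n).obj := ⟨⟨pt' L, C, p, σ, hσ⟩, hC⟩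
      let ψ : X ⟶ x₀.1 := ObjectProperty.homMk ψ₀
      have hd : _root_.EssDim.Descends (Gerb.isoClPsh (CurvSt.Mgn (Spec (CommRingCat.of k)) 0 n))
          (Quot.mk (Gerb.IsoRel (CurvSt.Mgn (Spec (CommRingCat.of k)) 0 n) (pt' L)) ⟨X, rfl⟩) F :=
        (_root_.EssDim.descends_isoCl_iff _ _ F).2 ⟨x₀, ψ,
          IsHomLift.of_fac' _ _ _ rfl rfl (by simp only [eqToHom_refl, Category.id_comp, Category.comp_id]; rfl)⟩
      refine (WithBot.coe_le_coe.2 (_root_.EssDim.edAt_le_of_descends hd)).trans (le_of_eq ?_)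
      have : Algebra.trdeg k F = 0 := by
        rw [(IntermediateField.botEquiv k L).trdeg_eq]
        exact trdeg_eq_zero (R := k) (A := k)
      rw [this]
      simp
  · let x₀ : StkCnt.pts (CurvSt.Mgn (Spec (CommRingCat.of k)) 0 n) k :=
      ⟨⟨stdP1 k emb, isSmoothPtdFam_stdP1 k emb hemb⟩, rfl⟩
    refine le_trans ?_ (_root_.EssDim.edAt_le_ed (P := Gerb.isoClPsh _) (Quot.mk _ x₀))
    exact_mod_cast zero_le

end GrothLib.EssDim
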