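import Mathlib.AlgebraicGeometry.Sites.Fpqc
import Mathlib.AlgebraicGeometry.Morphisms.ClosedImmersion
import Mathlib.AlgebraicGeometry.IdealSheaf.Subscheme
import Mathlib.RingTheory.TensorProduct.Free
import Mathlib.LinearAlgebra.Dimension.Free

/-!
# Descent of morphisms to the intersection of two fields

If a morphism out of the base change to `L` and one out of the base change to `M` agree over a common extension
`Ω`, and `F = L ∩ M` in `Ω`, then the morphism is defined over `F`.

* `exists_descends_of_agree`: the statement for an arbitrary scheme over `F` and an arbitrary target scheme.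
-/

set_option backward.isDefEq.respectTransparency false
set_option backward.isDefEq.respectTransparency.types false
set_option autoImplicit false

universe u v

open CategoryTheory CategoryTheory.Limits AlgebraicGeometry TensorProduct

namespace GrothLib.EssDim.Desc

variable {F L M Ω : Type u} [Field F] [Field L] [Field M] [Field Ω]
  [Algebra F L] [Algebra F M] [Algebra F Ω] (c : L →ₐ[F] Ω) (d : M →ₐ[F] Ω)

/-! ### Linear algebra -/

section Linear

variable {ι : Type v}

/-- Coordinatewise image. -/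
noncomputable def cext (u : ι →₀ L) : ι →₀ Ω := u.mapRange c (map_zero c)

theorem cext_apply (u : ι →₀ L) (i : ι) : cext c u i = c (u i) := Finsupp.mapRange_apply ..

theorem cext_add (u w : ι →₀ L) : cext c (u + w) = cext c u + cext c w := by
  ext i; simp [cext_apply]

theorem cext_sub (u w : ι →₀ L) : cext c (u - w) = cext c u - cext c w := by
  ext i; simp [cext_apply]

theorem cext_single_one (i : ι) : cext c (Finsupp.single i 1) = Finsupp.single i 1 := by
  simp [cext]

theorem cext_mem_supported {u : ι →₀ L} {s : Set ι} (h : u ∈ Finsupp.supported L L s) :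
    cext c u ∈ Finsupp.supported Ω Ω s := by
  rw [Finsupp.mem_supported'] at h ⊢
  intro i hi
  rw [cext_apply, h i hi, map_zero]

/-- A retraction of the extension of scalars, coordinatewise, takes the extended subspace into the subspace. -/
theorem exists_retract (W : Submodule L (ι →₀ L)) :
    ∃ r : Ω →+ L, r 1 = 1 ∧ (∀ l ω, r (c l * ω) = l * r ω) ∧
      ∀ z ∈ Submodule.span Ω (cext c '' (W : Set (ι →₀ L))), ∀ ω : Ω,
        (ω • z).mapRange r (map_zero r) ∈ W := by
  letI := c.toRingHom.toAlgebra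
  obtain ⟨r, hr⟩ := (Algebra.linearMap L Ω).exists_leftInverse_of_injective
    (LinearMap.ker_eq_bot.2 (algebraMap L Ω).injective)
  have hr1 : r 1 = 1 := by simpa using LinearMap.congr_fun hr 1
  have hrm : ∀ l ω, r (c l * ω) = l * r ω := fun l ω => by
    have := r.map_smul l ω
    rw [Algebra.smul_def, smul_eq_mul] at this
    exact this
  refine ⟨r.toAddMonoidHom, hr1, hrm, fun z hz => ?_⟩
  induction hz using Submodule.span_induction with
  | mem z hz =>
    obtain ⟨w, hw, rfl⟩ := hz
    intro ω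
    convert W.smul_mem (r ω) hw using 1
    ext i
    simp only [Finsupp.mapRange_apply, Finsupp.smul_apply, cext_apply, smul_eq_mul,
      LinearMap.toAddMonoidHom_coe]
    rw [mul_comm ω, hrm, mul_comm]
  | zero =>
    intro ω
    convert W.zero_mem using 1
    ext i
    simp
  | add x y _ _ hx hy =>
    intro ω
    convert W.add_mem (hx ω) (hy ω) using 1
    ext i
    simp
  | smul a x _ hx =>
    intro ω
    convert hx (ω * a) using 1
    rw [smul_smul]

theorem mem_of_cext_mem (W : Submodule L (ι →₀ L)) {u : ι →₀ L}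
    (h : cext c u ∈ Submodule.span Ω (cext c '' (W : Set (ι →₀ L)))) : u ∈ W := by
  obtain ⟨r, h1, hm, hW⟩ := exists_retract c W
  convert hW _ h 1 using 1
  ext i
  have := hm (u i) 1
  rw [mul_one, h1, mul_one] at this
  simp [cext_apply, this]

theorem eq_zero_of_supported (W : Submodule L (ι →₀ L)) {s : Set ι}
    (hs : ∀ u ∈ W, u ∈ Finsupp.supported L L s → u = 0) {z : ι →₀ Ω}
    (hz : z ∈ Submodule.span Ω (cext c '' (W : Set (ι →₀ L)))) (hzs : z ∈ Finsupp.supported Ω Ω s) : z = 0 := by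
  obtain ⟨r, h1, hm, hW⟩ := exists_retract c W
  ext i
  by_contra hi
  have h0 := hs _ (hW z hz (z i)⁻¹) (by
    rw [Finsupp.mem_supported'] at hzs ⊢
    intro j hj
    simp [hzs j hj])
  have := DFunLike.congr_fun h0 i
  rw [Finsupp.mapRange_apply, Finsupp.smul_apply, smul_eq_mul, inv_mul_cancel₀ hi, h1] at this
  exact one_ne_zero this

theorem exists_complement (W : Submodule L (ι →₀ L)) (s₀ : Set ι)
    (h₀ : ∀ u ∈ W, u ∈ Finsupp.supported L L s₀ → u = 0) :
    ∃ (s : Set ι) (l : ι → (ι →₀ L)), s₀ ⊆ s ∧ (∀ u ∈ W, u ∈ Finsupp.supported L L s → u = 0) ∧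
      ∀ i, l i ∈ Finsupp.supported L L s ∧ Finsupp.single i 1 - l i ∈ W := by
  let v : ι → (ι →₀ L) ⧸ W := fun i => W.mkQ (Finsupp.single i 1)
  have hlc : ∀ u, Finsupp.linearCombination L v u = W.mkQ u := fun u => by
    have h : Finsupp.linearCombination L v = W.mkQ := by
      refine Finsupp.lhom_ext fun i a => ?_
      rw [Finsupp.linearCombination_single, ← W.mkQ.map_smul, Finsupp.smul_single, smul_eq_mul, mul_one]
    rw [h]
  have hi₀ : LinearIndepOn L v s₀ := linearIndepOn_iff.2 fun u hu h => by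
    rw [hlc] at h
    exact h₀ u ((Submodule.Quotient.mk_eq_zero W).1 h) hu
  obtain ⟨s, -, hss, hspan, hind⟩ := exists_linearIndepOn_extension hi₀ (Set.subset_univ s₀)
  have hl : ∀ i, ∃ l ∈ Finsupp.supported L L s, Finsupp.single i 1 - l ∈ W := fun i => by
    obtain ⟨l, hl, e⟩ := (Finsupp.mem_span_image_iff_linearCombination L).1 (hspan ⟨i, Set.mem_univ i, rfl⟩)
    refine ⟨l, hl, ?_⟩
    rw [hlc] at e
    exact (Submodule.Quotient.eq W).1 e.symm
  choose l hl hl' using hl
  refine ⟨s, l, hss, fun u hu hus => linearIndepOn_iff.1 hind u hus ?_, fun i => ⟨hl i, hl' i⟩⟩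
  rw [hlc]
  exact (Submodule.Quotient.mk_eq_zero W).2 hu

theorem exists_coord (hint : ∀ l m, c l = d m → ∃ f, algebraMap F L f = l) (u : ι →₀ L) (v : ι →₀ M)
    (h : cext c u = cext d v) : ∃ w : ι →₀ F, w.mapRange (algebraMap F L) (map_zero _) = u := by
  classical
  have : ∀ i, ∃ f, algebraMap F L f = u i := fun i => hint _ _ (by rw [← cext_apply, ← cext_apply, h])
  choose f hf using this
  refine ⟨Finsupp.onFinset u.support f fun i hi => ?_, Finsupp.ext fun i => by simp [hf]⟩
  rw [Finsupp.mem_support_iff, ← hf i]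
  simpa using hi

/-- A subspace defined over `L` and over `M` is defined over `F`. -/
theorem le_span_rational (hint : ∀ l m, c l = d m → ∃ f, algebraMap F L f = l)
    (WL : Submodule L (ι →₀ L)) (WM : Submodule M (ι →₀ M))
    (h : Submodule.span Ω (cext c '' (WL : Set (ι →₀ L))) = Submodule.span Ω (cext d '' (WM : Set (ι →₀ M)))) :
    WL ≤ Submodule.span L {u | u ∈ WL ∧ ∃ w : ι →₀ F, w.mapRange (algebraMap F L) (map_zero _) = u} := by
  obtain ⟨s, l, -, hs, hl⟩ := exists_complement WL ∅ fun u _ hu => by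
    ext i
    exact (Finsupp.mem_supported' L u).1 hu i (Set.notMem_empty i)
  have hsM : ∀ u ∈ WM, u ∈ Finsupp.supported M M s → u = 0 := fun u hu hus => by
    have := eq_zero_of_supported c WL hs (h ▸ Submodule.subset_span ⟨u, hu, rfl⟩) (cext_mem_supported d hus)
    ext i
    have := DFunLike.congr_fun this i
    rw [cext_apply, Finsupp.zero_apply] at this
    exact d.toRingHom.injective (this.trans (map_zero d).symm)
  obtain ⟨s', m, hss, hs', hm⟩ := exists_complement WM s hsM
  have hcl : ∀ i, Finsupp.single i 1 - cext c (l i) ∈ Submodule.span Ω (cext c '' (WL : Set (ι →₀ L))) := fun i =>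
    Submodule.subset_span ⟨_, (hl i).2, by rw [cext_sub, cext_single_one]⟩
  have heq : s' ⊆ s := fun i hi => by
    by_contra his
    have h0 := eq_zero_of_supported d WM hs' (h ▸ hcl i) (Submodule.sub_mem _
      (Finsupp.single_mem_supported Ω 1 hi) (Finsupp.supported_mono hss (cext_mem_supported c (hl i).1)))
    have := DFunLike.congr_fun h0 i
    rw [Finsupp.sub_apply, Finsupp.single_eq_same,
      (Finsupp.mem_supported' Ω _).1 (cext_mem_supported c (hl i).1) i his, sub_zero] at this
    exact one_ne_zero this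
  have hrat : ∀ i, ∃ w : ι →₀ F, w.mapRange (algebraMap F L) (map_zero _) = Finsupp.single i 1 - l i := fun i => by
    classical
    have hdm : Finsupp.single i 1 - cext d (m i) ∈ Submodule.span Ω (cext c '' (WL : Set (ι →₀ L))) :=
      h ▸ Submodule.subset_span ⟨_, (hm i).2, by rw [cext_sub, cext_single_one]⟩
    have h0 := eq_zero_of_supported c WL hs (Submodule.sub_mem _ hdm (hcl i))
      (by
        rw [sub_sub_sub_cancel_left]
        exact Submodule.sub_mem _ (cext_mem_supported c (hl i).1)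
          (Finsupp.supported_mono heq (cext_mem_supported d (hm i).1)))
    rw [sub_sub_sub_cancel_left, sub_eq_zero] at h0
    obtain ⟨w, hw⟩ := exists_coord c d hint (l i) (m i) h0
    refine ⟨Finsupp.single i 1 - w, Finsupp.ext fun j => ?_⟩
    rw [Finsupp.mapRange_apply, Finsupp.sub_apply, Finsupp.sub_apply, map_sub, ← hw, Finsupp.mapRange_apply]
    congr 1
    rw [Finsupp.single_apply, Finsupp.single_apply]
    split <;> simp
  intro u hu
  have hsum : u.sum (fun i a => a • (Finsupp.single i 1 - l i)) = u - u.sum (fun i a => a • l i) := by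
    simp only [smul_sub, Finsupp.sum_sub, Finsupp.smul_single, smul_eq_mul, mul_one, Finsupp.sum_single]
  have hmem : u.sum (fun i a => a • (Finsupp.single i 1 - l i)) ∈ Submodule.span L
      {u | u ∈ WL ∧ ∃ w : ι →₀ F, w.mapRange (algebraMap F L) (map_zero _) = u} :=
    Submodule.sum_mem _ fun i _ => Submodule.smul_mem _ _ (Submodule.subset_span ⟨(hl i).2, hrat i⟩)
  have hz : u.sum (fun i a => a • l i) = 0 := by
    refine hs _ ?_ (Submodule.sum_mem _ fun i _ => Submodule.smul_mem _ _ (hl i).1)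
    have h1 : u.sum (fun i a => a • (Finsupp.single i 1 - l i)) ∈ WL :=
      Submodule.sum_mem _ fun i _ => WL.smul_mem _ (hl i).2
    rw [hsum] at h1
    simpa using WL.sub_mem hu h1
  rwa [hsum, hz, sub_zero] at hmem

end Linear

/-! ### Elements and ideals of base changed algebras -/

section Ring

variable (A : Type u) [CommRing A] [Algebra F A]

/-- The map of base changes induced by an extension of the scalars. -/
noncomputable abbrev θ : L ⊗[F] A →ₐ[F] Ω ⊗[F] A := Algebra.TensorProduct.map c (AlgHom.id F A)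

/-- Coordinates in the base change. -/
noncomputable def coord (L : Type u) [Field L] [Algebra F L] :
    L ⊗[F] A ≃ₗ[L] ((Module.Free.ChooseBasisIndex F A) →₀ L) :=
  (Algebra.TensorProduct.basis L (Module.Free.chooseBasis F A)).repr

theorem coord_θ (x : L ⊗[F] A) : coord A Ω (θ c A x) = cext c (coord A L x) := by
  induction x using TensorProduct.induction_on with
  | zero => ext; simp [cext_apply]
  | tmul l a =>
    ext i
    simp [coord, cext_apply, Algebra.TensorProduct.basis_repr_tmul]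
  | add x y hx hy => simp [hx, hy, cext_add]

theorem coord_one_tmul (a : A) :
    coord A L (1 ⊗ₜ a) = ((Module.Free.chooseBasis F A).repr a).mapRange (algebraMap F L) (map_zero _) := by
  simp [coord, Algebra.TensorProduct.basis_repr_tmul]

theorem exists_eq_one_tmul (hint : ∀ l m, c l = d m → ∃ f, algebraMap F L f = l) {x : L ⊗[F] A} {y : M ⊗[F] A}
    (h : θ c A x = θ d A y) : ∃ a, (1 : L) ⊗ₜ[F] a = x := by
  obtain ⟨w, hw⟩ := exists_coord c d hint (coord A L x) (coord A M y) (by rw [← coord_θ, ← coord_θ, h])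
  refine ⟨(Module.Free.chooseBasis F A).repr.symm w, (coord A L).injective ?_⟩
  rw [coord_one_tmul, LinearEquiv.apply_symm_apply, hw]

theorem map_θ_restrictScalars (I : Ideal (L ⊗[F] A)) :
    (I.map (θ c A)).restrictScalars Ω = Submodule.span Ω (θ c A '' (I : Set (L ⊗[F] A))) := by
  refine le_antisymm (fun z hz => ?_) (Submodule.span_le.2 ?_)
  · rw [Submodule.restrictScalars_mem] at hz
    induction hz using Submodule.span_induction with
    | mem z hz => exact Submodule.subset_span hz
    | zero => exact Submodule.zero_mem _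
    | add x y _ _ hx hy => exact Submodule.add_mem _ hx hy
    | smul b x hx' hx =>
      clear hx'
      rw [smul_eq_mul]
      induction hx using Submodule.span_induction with
      | mem x hx =>
        obtain ⟨x, hx, rfl⟩ := hx
        induction b using TensorProduct.induction_on with
        | zero => simp
        | tmul ω a =>
          have : ω ⊗ₜ[F] a * θ c A x = ω • θ c A ((1 ⊗ₜ[F] a) * x) := by
            rw [map_mul, Algebra.TensorProduct.map_tmul, map_one, ← smul_mul_assoc, TensorProduct.smul_tmul',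
              smul_eq_mul, mul_one]
            rfl
          rw [this]
          exact Submodule.smul_mem _ _ (Submodule.subset_span ⟨_, I.mul_mem_left _ hx, rfl⟩)
        | add p q hp hq => rw [add_mul]; exact Submodule.add_mem _ hp hq
      | zero => simp
      | add p q _ _ hp hq => rw [mul_add]; exact Submodule.add_mem _ hp hq
      | smul ω p _ hp => rw [mul_smul_comm]; exact Submodule.smul_mem _ _ hp
  · rintro _ ⟨x, hx, rfl⟩
    exact Ideal.mem_map_of_mem _ hx

theorem map_coord_map_θ (I : Ideal (L ⊗[F] A)) :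
    ((I.map (θ c A)).restrictScalars Ω).map (coord A Ω).toLinearMap = Submodule.span Ω
      (cext c '' ((I.restrictScalars L).map (coord A L).toLinearMap : Set (_ →₀ L))) := by
  rw [map_θ_restrictScalars, Submodule.map_span, Submodule.map_coe, ← Set.image_comp, ← Set.image_comp]
  congr 1
  exact Set.image_congr fun x _ => coord_θ c A x

theorem mem_of_θ_mem {I : Ideal (L ⊗[F] A)} {x : L ⊗[F] A} (h : θ c A x ∈ I.map (θ c A)) : x ∈ I := by
  have h1 : coord A Ω (θ c A x) ∈ ((I.map (θ c A)).restrictScalars Ω).map (coord A Ω).toLinearMap :=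
    Submodule.mem_map_of_mem (f := (coord A Ω).toLinearMap) h
  rw [map_coord_map_θ, coord_θ] at h1
  obtain ⟨y, hy, e⟩ := mem_of_cext_mem c _ h1
  exact (coord A L).injective e ▸ hy

/-- An ideal defined over `L` and over `M` is defined over `F`. -/
theorem exists_ideal (hint : ∀ l m, c l = d m → ∃ f, algebraMap F L f = l) (IL : Ideal (L ⊗[F] A))
    (IM : Ideal (M ⊗[F] A)) (h : IL.map (θ c A) = IM.map (θ d A)) :
    ∃ J : Ideal A, IL = J.map (Algebra.TensorProduct.includeRight : A →ₐ[F] L ⊗[F] A) ∧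
      IM = J.map (Algebra.TensorProduct.includeRight : A →ₐ[F] M ⊗[F] A) := by
  have key : ∀ {L M : Type u} [Field L] [Field M] [Algebra F L] [Algebra F M] (c : L →ₐ[F] Ω) (d : M →ₐ[F] Ω),
      (∀ l m, c l = d m → ∃ f, algebraMap F L f = l) → ∀ (IL : Ideal (L ⊗[F] A)) (IM : Ideal (M ⊗[F] A)),
      IL.map (θ c A) = IM.map (θ d A) →
      IL = (IL.comap (Algebra.TensorProduct.includeRight : A →ₐ[F] L ⊗[F] A)).map
        (Algebra.TensorProduct.includeRight : A →ₐ[F] L ⊗[F] A) := by
    intro L M _ _ _ _ c d hint IL IM h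
    refine le_antisymm (fun x hx => ?_) Ideal.map_comap_le
    have h' := congrArg (fun I : Ideal (Ω ⊗[F] A) => (I.restrictScalars Ω).map (coord A Ω).toLinearMap) h
    simp only [map_coord_map_θ] at h'
    have hu := le_span_rational c d hint _ _ h'
      (Submodule.mem_map_of_mem (f := (coord A L).toLinearMap) (show x ∈ IL.restrictScalars L from hx))
    have hle : Submodule.span L {u | u ∈ (IL.restrictScalars L).map (coord A L).toLinearMap ∧
          ∃ w : _ →₀ F, w.mapRange (algebraMap F L) (map_zero _) = u} ≤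
        (((IL.comap (Algebra.TensorProduct.includeRight : A →ₐ[F] L ⊗[F] A)).map
          (Algebra.TensorProduct.includeRight : A →ₐ[F] L ⊗[F] A)).restrictScalars L).map
            (coord A L).toLinearMap := by
      refine Submodule.span_le.2 ?_
      rintro _ ⟨⟨y, hy, rfl⟩, w, hw⟩
      have e : (1 : L) ⊗ₜ[F] (Module.Free.chooseBasis F A).repr.symm w = y := (coord A L).injective (by
        rw [coord_one_tmul, LinearEquiv.apply_symm_apply]
        exact hw)
      refine Submodule.mem_map_of_mem (show y ∈ Submodule.restrictScalars L _ from ?_)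
      subst e
      exact Ideal.mem_map_of_mem _ (Ideal.mem_comap.2 hy)
    obtain ⟨z, hz, e⟩ := hle hu
    exact (coord A L).injective e ▸ hz
  have hint' : ∀ m l, d m = c l → ∃ f, algebraMap F M f = m := fun m l e => by
    obtain ⟨f, rfl⟩ := hint l m e.symm
    refine ⟨f, d.toRingHom.injective ?_⟩
    change d _ = d m
    rw [AlgHom.commutes, e, AlgHom.commutes]
  refine ⟨IL.comap (Algebra.TensorProduct.includeRight : A →ₐ[F] L ⊗[F] A), key c d hint IL IM h, ?_⟩
  rw [show IL.comap (Algebra.TensorProduct.includeRight : A →ₐ[F] L ⊗[F] A) =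
    IM.comap (Algebra.TensorProduct.includeRight : A →ₐ[F] M ⊗[F] A) from ?_]
  · exact key d c hint' IM IL h.symm
  · ext a
    have ea : θ c A (1 ⊗ₜ a) = θ d A (1 ⊗ₜ a) := by simp [θ]
    refine ⟨fun ha => mem_of_θ_mem d A ?_, fun ha => mem_of_θ_mem c A ?_⟩
    · rw [← h]
      change θ d A (1 ⊗ₜ a) ∈ _
      rw [← ea]
      exact Ideal.mem_map_of_mem _ ha
    · rw [h]
      change θ c A (1 ⊗ₜ a) ∈ _
      rw [ea]
      exact Ideal.mem_map_of_mem _ ha

end Ring

/-! ### Affine pieces -/

section Affine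

variable (A : Type u) [CommRing A] [Algebra F A]

/-- The projection `Spec (L ⊗ A) ⟶ Spec A`. -/
noncomputable abbrev prA (L : Type u) [Field L] [Algebra F L] :
    Spec (CommRingCat.of (L ⊗[F] A)) ⟶ Spec (CommRingCat.of A) :=
  Spec.map (CommRingCat.ofHom (Algebra.TensorProduct.includeRight : A →ₐ[F] L ⊗[F] A).toRingHom)

/-- The projection `Spec (L ⊗ A) ⟶ Spec L`. -/
noncomputable abbrev prL (L : Type u) [Field L] [Algebra F L] :
    Spec (CommRingCat.of (L ⊗[F] A)) ⟶ Spec (CommRingCat.of L) :=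
  Spec.map (CommRingCat.ofHom Algebra.TensorProduct.includeLeftRingHom)

/-- `Spec` of `θ`. -/
noncomputable abbrev specθ : Spec (CommRingCat.of (Ω ⊗[F] A)) ⟶ Spec (CommRingCat.of (L ⊗[F] A)) :=
  Spec.map (CommRingCat.ofHom (θ c A).toRingHom)

theorem specθ_prA : specθ c A ≫ prA A L = prA A Ω := by
  rw [← Spec.map_comp, ← CommRingCat.ofHom_comp]
  congr 2
  ext a
  simp [θ]

theorem specθ_prL : specθ c A ≫ prL A L = prL A Ω ≫ Spec.map (CommRingCat.ofHom c.toRingHom) := by
  rw [← Spec.map_comp, ← Spec.map_comp, ← CommRingCat.ofHom_comp, ← CommRingCat.ofHom_comp]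
  congr 2

variable {A} {X : Scheme.{u}}

/-- The ideal of the preimage of a closed subscheme, with its universal property. -/
theorem exists_preimage_ideal {B : Type u} [CommRing B] (φ : Spec (CommRingCat.of B) ⟶ X) {Z : Scheme.{u}}
    (i : Z ⟶ X) [IsClosedImmersion i] :
    ∃ I : Ideal B, PrimeSpectrum.zeroLocus (I : Set B) = φ ⁻¹' Set.range i ∧
      ∀ (R : Type u) [CommRing R] (ψ : B →+* R),
        I ≤ RingHom.ker ψ ↔ ∃ z, z ≫ i = Spec.map (CommRingCat.ofHom ψ) ≫ φ := by
  obtain ⟨I, e, he⟩ := IsClosedImmersion.Spec_iff.1 (inferInstance : IsClosedImmersion (pullback.snd i φ))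
  refine ⟨I, ?_, fun R _ ψ => ⟨fun h => ?_, fun ⟨z, hz⟩ => ?_⟩⟩
  · rw [← Scheme.Pullback.range_snd, he]
    have : Function.Surjective e.hom := e.hom.surjective
    rw [Scheme.Hom.comp_base, TopCat.coe_comp, this.range_comp]
    exact ((range_comap_of_surjective _ _ Ideal.Quotient.mk_surjective).trans
      (by rw [Ideal.mk_ker])).symm
  · let z' : Spec (CommRingCat.of R) ⟶ pullback i φ :=
      Spec.map (CommRingCat.ofHom (Ideal.Quotient.lift I ψ fun x hx => h hx)) ≫ e.inv
    refine ⟨z' ≫ pullback.fst i φ, ?_⟩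
    rw [Category.assoc, pullback.condition, he]
    simp only [z', Category.assoc, Iso.inv_hom_id_assoc]
    rw [← Spec.map_comp_assoc, ← CommRingCat.ofHom_comp]
    rfl
  · obtain ⟨g, hg⟩ := Spec.map_surjective (pullback.lift z (Spec.map (CommRingCat.ofHom ψ)) hz ≫ e.hom)
    have h : CommRingCat.ofHom (Ideal.Quotient.mk I) ≫ g = CommRingCat.ofHom ψ := Spec.map_injective (by
      rw [Spec.map_comp, hg, Category.assoc]
      refine Eq.trans ?_ (pullback.lift_snd _ _ hz)
      exact congrArg _ he.symm)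
    intro x hx
    rw [RingHom.mem_ker]
    have := congrArg (fun t : CommRingCat.of B ⟶ CommRingCat.of R => t.hom x) h
    simp only [CommRingCat.hom_comp, CommRingCat.hom_ofHom, RingHom.comp_apply] at this
    rw [← this, Ideal.Quotient.eq_zero_iff_mem.2 hx]
    exact map_zero _

/-- An open subset of the target pulls back to an open subset defined over `F`. -/
theorem exists_opens (hint : ∀ l m, c l = d m → ∃ f, algebraMap F L f = l)
    (φL : Spec (CommRingCat.of (L ⊗[F] A)) ⟶ X) (φM : Spec (CommRingCat.of (M ⊗[F] A)) ⟶ X)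
    (hag : specθ c A ≫ φL = specθ d A ≫ φM) (U : X.Opens) :
    ∃ U' : (Spec (CommRingCat.of A)).Opens, prA A L ⁻¹ᵁ U' = φL ⁻¹ᵁ U ∧ prA A M ⁻¹ᵁ U' = φM ⁻¹ᵁ U := by
  let Zi := (Scheme.IdealSheafData.vanishingIdeal ⟨(U : Set X)ᶜ, U.2.isClosed_compl⟩).subschemeι
  have hZ : Set.range Zi = (U : Set X)ᶜ := by
    rw [Scheme.IdealSheafData.range_subschemeι, Scheme.IdealSheafData.coe_support_vanishingIdeal]
    rfl
  obtain ⟨IL, hL, uL⟩ := exists_preimage_ideal φL Zi
  obtain ⟨IM, hM, uM⟩ := exists_preimage_ideal φM Zi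
  have h1 : ∀ {L M : Type u} [Field L] [Field M] [Algebra F L] [Algebra F M] (c : L →ₐ[F] Ω) (d : M →ₐ[F] Ω)
      (φL : Spec (CommRingCat.of (L ⊗[F] A)) ⟶ X) (φM : Spec (CommRingCat.of (M ⊗[F] A)) ⟶ X)
      (IL : Ideal (L ⊗[F] A)) (IM : Ideal (M ⊗[F] A)),
      specθ c A ≫ φL = specθ d A ≫ φM →
      (∀ (R : Type u) [CommRing R] (ψ : L ⊗[F] A →+* R),
        IL ≤ RingHom.ker ψ ↔ ∃ z, z ≫ Zi = Spec.map (CommRingCat.ofHom ψ) ≫ φL) →
      (∀ (R : Type u) [CommRing R] (ψ : M ⊗[F] A →+* R),
        IM ≤ RingHom.ker ψ ↔ ∃ z, z ≫ Zi = Spec.map (CommRingCat.ofHom ψ) ≫ φM) →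
      IM.map (θ d A) ≤ IL.map (θ c A) := by
    intro L M _ _ _ _ c d φL φM IL IM hag uL uM
    let q : Ω ⊗[F] A →+* (Ω ⊗[F] A) ⧸ IL.map (θ c A) := Ideal.Quotient.mk _
    obtain ⟨z, hz⟩ := (uL _ (q.comp (θ c A).toRingHom)).1 fun x hx =>
      Ideal.Quotient.eq_zero_iff_mem.2 (Ideal.mem_map_of_mem _ hx)
    have := (uM _ (q.comp (θ d A).toRingHom)).2 ⟨z, by
      rw [hz, CommRingCat.ofHom_comp, CommRingCat.ofHom_comp, Spec.map_comp, Spec.map_comp, Category.assoc,
        Category.assoc]
      exact congrArg _ hag⟩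
    refine Ideal.map_le_iff_le_comap.2 fun x hx => ?_
    exact Ideal.mem_comap.2 (Ideal.Quotient.eq_zero_iff_mem.1 (show q (θ d A x) = 0 from this hx))
  obtain ⟨J, hJL, hJM⟩ := exists_ideal c d A hint IL IM
    (le_antisymm (h1 d c φM φL IM IL hag.symm uM uL) (h1 c d φL φM IL IM hag uL uM))
  refine ⟨⟨(PrimeSpectrum.zeroLocus (J : Set A))ᶜ, (PrimeSpectrum.isClosed_zeroLocus _).isOpen_compl⟩, ?_, ?_⟩
  all_goals
    apply TopologicalSpace.Opens.ext
    apply compl_injective
  · change (PrimeSpectrum.comap _ ⁻¹' (PrimeSpectrum.zeroLocus (J : Set A))ᶜ)ᶜ = _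
    rw [Set.preimage_compl, compl_compl, PrimeSpectrum.preimage_comap_zeroLocus, ← PrimeSpectrum.zeroLocus_span]
    change PrimeSpectrum.zeroLocus (((J.map (Algebra.TensorProduct.includeRight : A →ₐ[F] L ⊗[F] A) : Ideal (L ⊗[F] A))) : Set (L ⊗[F] A)) = _
    rw [← hJL, hL, hZ]
    rfl
  · change (PrimeSpectrum.comap _ ⁻¹' (PrimeSpectrum.zeroLocus (J : Set A))ᶜ)ᶜ = _
    rw [Set.preimage_compl, compl_compl, PrimeSpectrum.preimage_comap_zeroLocus, ← PrimeSpectrum.zeroLocus_span]
    change PrimeSpectrum.zeroLocus (((J.map (Algebra.TensorProduct.includeRight : A →ₐ[F] M ⊗[F] A) : Ideal (M ⊗[F] A))) : Set (M ⊗[F] A)) = _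
    rw [← hJM, hM, hZ]
    rfl

/-- Descent of a morphism to an affine target. -/
theorem exists_desc_affine (hint : ∀ l m, c l = d m → ∃ f, algebraMap F L f = l) {U : Scheme.{u}} [IsAffine U]
    (φL : Spec (CommRingCat.of (L ⊗[F] A)) ⟶ U) (φM : Spec (CommRingCat.of (M ⊗[F] A)) ⟶ U)
    (hag : specθ c A ≫ φL = specθ d A ≫ φM) : ∃ φ, prA A L ≫ φ = φL := by
  obtain ⟨gL, hgL⟩ := Spec.map_surjective (φL ≫ U.isoSpec.hom)
  obtain ⟨gM, hgM⟩ := Spec.map_surjective (φM ≫ U.isoSpec.hom)
  have hg : gL ≫ CommRingCat.ofHom (θ c A).toRingHom = gM ≫ CommRingCat.ofHom (θ d A).toRingHom :=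
    Spec.map_injective (by rw [Spec.map_comp, Spec.map_comp, hgL, hgM, ← Category.assoc, ← Category.assoc]
                           exact congrArg (· ≫ U.isoSpec.hom) hag)
  have : ∀ r, ∃ a : A, (1 : L) ⊗ₜ[F] a = gL.hom r := fun r =>
    exists_eq_one_tmul c d A hint (y := gM.hom r)
      (congrArg (fun t : _ ⟶ CommRingCat.of (Ω ⊗[F] A) => t.hom r) hg)
  choose g hg' using this
  have hinj : Function.Injective (Algebra.TensorProduct.includeRight : A →ₐ[F] L ⊗[F] A) :=
    Algebra.TensorProduct.includeRight_injective (algebraMap F L).injective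
  have hg'' : ∀ r, (Algebra.TensorProduct.includeRight : A →ₐ[F] L ⊗[F] A) (g r) = gL.hom r := hg'
  let G : Γ(U, ⊤) →+* A :=
    { toFun := g
      map_one' := hinj (by rw [hg'', map_one, map_one])
      map_mul' := fun x y => hinj (by rw [hg'', map_mul, map_mul, hg'', hg''])
      map_zero' := hinj (by rw [hg'', map_zero, map_zero])
      map_add' := fun x y => hinj (by rw [hg'', map_add, map_add, hg'', hg'']) }
  refine ⟨Spec.map (CommRingCat.ofHom G) ≫ U.isoSpec.inv, ?_⟩
  rw [← Spec.map_comp_assoc, Iso.comp_inv_eq, ← hgL]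
  congr 1
  exact CommRingCat.hom_ext (RingHom.ext hg'')

end Affine

/-! ### The global statement -/

theorem exists_descends_of_agree (hint : ∀ l m, c l = d m → ∃ f, algebraMap F L f = l)
    {P X PL PM : Scheme.{u}} (π : P ⟶ Spec (CommRingCat.of F))
    {pL : PL ⟶ P} {qL : PL ⟶ Spec (CommRingCat.of L)}
    (hL : IsPullback pL qL π (Spec.map (CommRingCat.ofHom (algebraMap F L))))
    {pM : PM ⟶ P} {qM : PM ⟶ Spec (CommRingCat.of M)}
    (hM : IsPullback pM qM π (Spec.map (CommRingCat.ofHom (algebraMap F M))))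
    (φL : PL ⟶ X) (φM : PM ⟶ X)
    (hag : ∀ (T : Scheme.{u}) (u : T ⟶ PL) (v : T ⟶ PM) (w : T ⟶ Spec (CommRingCat.of Ω)),
      u ≫ pL = v ≫ pM → w ≫ Spec.map (CommRingCat.ofHom c.toRingHom) = u ≫ qL →
      w ≫ Spec.map (CommRingCat.ofHom d.toRingHom) = v ≫ qM → u ≫ φL = v ≫ φM) :
    ∃ φ : P ⟶ X, pL ≫ φ = φL := by
  let aL := Spec.map (CommRingCat.ofHom (algebraMap F L))
  haveI : Flat aL := by
    rw [HasRingHomProperty.Spec_iff (P := @Flat)]
    exact (RingHom.flat_algebraMap_iff).2 inferInstance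
  haveI : Surjective aL := ⟨fun y => ⟨IsLocalRing.closedPoint L, Subsingleton.elim (α := PrimeSpectrum F) _ _⟩⟩
  haveI : Flat pL := MorphismProperty.of_isPullback hL.flip (inferInstanceAs (Flat aL))
  haveI : Surjective pL := MorphismProperty.of_isPullback hL.flip (inferInstanceAs (Surjective aL))
  haveI : QuasiCompact pL := MorphismProperty.of_isPullback hL.flip (inferInstanceAs (QuasiCompact aL))
  let Good : ∀ (A : CommRingCat.{u}), (Spec A ⟶ P) → Prop := fun A j =>
    ∃ φ : Spec A ⟶ X, ∀ (T : Scheme.{u}) (u : T ⟶ Spec A) (v : T ⟶ PL), u ≫ j = v ≫ pL → u ≫ φ = v ≫ φL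
  -- the local charts
  have chart : ∀ (A : CommRingCat.{u}) (j : Spec A ⟶ P),
      ∀ U : X.Opens, ∃ U' : (Spec A).Opens,
        (∀ (T : Scheme.{u}) (u : T ⟶ Spec A) (v : T ⟶ PL), u ≫ j = v ≫ pL → u ⁻¹ᵁ U' = v ⁻¹ᵁ (φL ⁻¹ᵁ U)) ∧
        (IsAffineOpen U → U' = ⊤ → Good A j) := by
    intro A j U
    letI : Algebra F A := (Spec.preimage (j ≫ π)).hom.toAlgebra
    have hA : Spec.map (CommRingCat.ofHom (algebraMap F A)) = j ≫ π := Spec.map_preimage _
    have cond : ∀ (L : Type u) [Field L] [Algebra F L],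
        (prA (F := F) A L ≫ j) ≫ π = prL (F := F) A L ≫ Spec.map (CommRingCat.ofHom (algebraMap F L)) := by
      intro L _ _
      change (Spec.map (CommRingCat.ofHom (Algebra.TensorProduct.includeRight : A →ₐ[F] L ⊗[F] A).toRingHom) ≫ j) ≫ π = _
      rw [Category.assoc, ← hA, ← Spec.map_comp, ← Spec.map_comp, ← CommRingCat.ofHom_comp, ← CommRingCat.ofHom_comp]
      congr 2
      ext f
      exact ((Algebra.TensorProduct.includeRight : A →ₐ[F] L ⊗[F] A).commutes f).trans
        ((Algebra.TensorProduct.includeLeft (R := F) (S := F) (A := L) (B := A)).commutes f).symm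
    let jL := hL.lift (prA (F := F) A L ≫ j) (prL (F := F) A L) (cond L)
    let jM := hM.lift (prA A M ≫ j) (prL A M) (cond M)
    have hag' : specθ c A ≫ jL ≫ φL = specθ d A ≫ jM ≫ φM := by
      rw [← Category.assoc, ← Category.assoc]
      refine hag _ _ _ (prL A Ω) ?_ ?_ ?_
      · simp only [Category.assoc, jL, jM, IsPullback.lift_fst]
        rw [← Category.assoc, ← Category.assoc, specθ_prA, specθ_prA]
      · rw [Category.assoc, IsPullback.lift_snd, specθ_prL]
      · rw [Category.assoc, IsPullback.lift_snd, specθ_prL]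
    have hfac : ∀ (T : Scheme.{u}) (u : T ⟶ Spec A) (v : T ⟶ PL), u ≫ j = v ≫ pL →
        ∃ w : T ⟶ Spec (CommRingCat.of (L ⊗[F] A)), w ≫ prA (F := F) A L = u ∧ w ≫ jL = v := by
      intro T u v e
      have hc : (v ≫ qL) ≫ Spec.map (CommRingCat.ofHom (algebraMap F L)) =
          u ≫ Spec.map (CommRingCat.ofHom (algebraMap F A)) := by
        rw [Category.assoc, ← hL.w, ← Category.assoc, ← e, Category.assoc, hA]
      let w := pullback.lift (v ≫ qL) u hc ≫ (pullbackSpecIso F L A).hom
      have w1 : w ≫ prL (F := F) A L = v ≫ qL := by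
        simp only [w, Category.assoc]
        rw [pullbackSpecIso_hom_fst, pullback.lift_fst]
      have w2 : w ≫ prA (F := F) A L = u := by
        simp only [w, Category.assoc]
        erw [pullbackSpecIso_hom_snd]
        rw [pullback.lift_snd]
      refine ⟨w, w2, hL.hom_ext ?_ ?_⟩
      · rw [Category.assoc, IsPullback.lift_fst, ← Category.assoc, w2, e]
      · rw [Category.assoc, IsPullback.lift_snd, w1]
    obtain ⟨U', hU'L, hU'M⟩ := exists_opens c d hint (jL ≫ φL) (jM ≫ φM) hag' U
    refine ⟨U', fun T u v e => ?_, fun hU htop => ?_⟩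
    · obtain ⟨w, rfl, rfl⟩ := hfac T u v e
      exact congrArg (w ⁻¹ᵁ ·) hU'L
    · have : IsAffine (U : Scheme.{u}) := hU
      subst htop
      have hrL : Set.range (jL ≫ φL) ⊆ Set.range U.ι := by
        rw [Scheme.Opens.range_ι]
        rintro _ ⟨x, rfl⟩
        exact hU'L.le (show x ∈ prA (F := F) A L ⁻¹ᵁ ⊤ from trivial)
      have hrM : Set.range (jM ≫ φM) ⊆ Set.range U.ι := by
        rw [Scheme.Opens.range_ι]
        rintro _ ⟨x, rfl⟩
        exact hU'M.le (show x ∈ prA A M ⁻¹ᵁ ⊤ from trivial)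
      obtain ⟨φ, hφ⟩ := exists_desc_affine c d hint (IsOpenImmersion.lift U.ι (jL ≫ φL) hrL)
        (IsOpenImmersion.lift U.ι (jM ≫ φM) hrM) (by
          rw [← cancel_mono U.ι, Category.assoc, Category.assoc, IsOpenImmersion.lift_fac, IsOpenImmersion.lift_fac]
          exact hag')
      refine ⟨φ ≫ U.ι, fun T u v e => ?_⟩
      obtain ⟨w, rfl, rfl⟩ := hfac T u v e
      rw [Category.assoc, reassoc_of% hφ, IsOpenImmersion.lift_fac, Category.assoc]
  -- a good chart around each point
  have cover : ∀ p : P, ∃ (A : CommRingCat.{u}) (j : Spec A ⟶ P), IsOpenImmersion j ∧ p ∈ Set.range j ∧ Good A j := by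
    intro p
    obtain ⟨x, hx⟩ := pL.surjective p
    obtain ⟨U, hU, hxU, -⟩ := exists_isAffineOpen_mem_and_subset (x := φL x) (U := ⊤) trivial
    obtain ⟨A₀, j₀, _, y, hy⟩ : ∃ (A₀ : CommRingCat.{u}) (j₀ : Spec A₀ ⟶ P) (_ : IsOpenImmersion j₀) (y : Spec A₀),
        j₀ y = p := by
      obtain ⟨y, hy⟩ := P.affineOpenCover.covers p
      exact ⟨_, P.affineOpenCover.f _, inferInstance, y, hy⟩
    obtain ⟨U', hU', -⟩ := chart A₀ j₀ U
    obtain ⟨z, hz1, hz2⟩ := Scheme.Pullback.exists_preimage_pullback (f := j₀) (g := pL) y x (hy.trans hx.symm)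
    have hyU : y ∈ U' := by
      have := hU' _ _ _ (pullback.condition (f := j₀) (g := pL))
      rw [← hz1]
      change z ∈ pullback.fst j₀ pL ⁻¹ᵁ U'
      rw [this]
      change φL (pullback.snd j₀ pL z) ∈ U
      rwa [hz2]
    obtain ⟨_, ⟨f, rfl⟩, hyf, hfU⟩ :=
      PrimeSpectrum.isTopologicalBasis_basic_opens.exists_subset_of_mem_open hyU U'.2
    let A := CommRingCat.of (Localization.Away f)
    let l : Spec A ⟶ Spec A₀ := Spec.map (CommRingCat.ofHom (algebraMap A₀ (Localization.Away f)))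
    haveI : IsOpenImmersion l := IsOpenImmersion.of_isLocalization f
    have hl : Set.range l = (PrimeSpectrum.basicOpen f : Set (PrimeSpectrum A₀)) :=
      PrimeSpectrum.localization_away_comap_range (Localization.Away f) f
    refine ⟨A, l ≫ j₀, inferInstance, ?_, ?_⟩
    · obtain ⟨y', rfl⟩ : y ∈ Set.range l := by rw [hl]; exact hyf
      exact ⟨y', hy⟩
    obtain ⟨U'', hU'', hgood⟩ := chart A (l ≫ j₀) U
    refine hgood hU (top_le_iff.1 fun q _ => ?_)
    obtain ⟨x', hx'⟩ := pL.surjective (j₀ (l q))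
    obtain ⟨t, ht1, ht2⟩ := Scheme.Pullback.exists_preimage_pullback (f := l ≫ j₀) (g := pL) q x' hx'.symm
    have e := pullback.condition (f := l ≫ j₀) (g := pL)
    have h1 := hU' _ (pullback.fst (l ≫ j₀) pL ≫ l) (pullback.snd _ _) (by rw [Category.assoc]; exact e)
    have h2 := hU'' _ _ _ e
    rw [← ht1]
    change t ∈ pullback.fst (l ≫ j₀) pL ⁻¹ᵁ U''
    rw [h2, ← h1]
    exact hfU (hl.le ⟨pullback.fst (l ≫ j₀) pL t, rfl⟩)
  choose A j hj hp hgood using cover
  choose φ hφ using hgood
  haveI := hj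
  let 𝒰 : P.OpenCover := {
    I₀ := P
    X := fun p => Spec (A p)
    f := j
    mem₀ := by
      rw [Scheme.presieve₀_mem_precoverage_iff]
      exact ⟨fun p => ⟨p, hp p⟩, inferInstance⟩ }
  have hag₂ : ∀ x y, pullback.fst (𝒰.f x) (𝒰.f y) ≫ φ x = pullback.snd (𝒰.f x) (𝒰.f y) ≫ φ y := by
    intro x y
    let g := pullback.fst (j x) (j y) ≫ j x
    rw [← cancel_epi (pullback.fst g pL)]
    rw [← Category.assoc, ← Category.assoc]
    refine (hφ x _ _ (pullback.snd g pL) ?_).trans (hφ y _ _ (pullback.snd g pL) ?_).symm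
    · rw [Category.assoc]
      exact pullback.condition
    · rw [Category.assoc, ← pullback.condition]
      exact pullback.condition
  refine ⟨𝒰.glueMorphisms φ hag₂, Scheme.Cover.hom_ext (𝒰.pullback₁ pL) _ _ fun x => ?_⟩
  change pullback.fst pL (j x) ≫ pL ≫ _ = pullback.fst pL (j x) ≫ φL
  rw [← Category.assoc, pullback.condition, Category.assoc, show j x ≫ _ = φ x from 𝒰.ι_glueMorphisms φ hag₂ x]
  exact hφ x _ _ _ pullback.condition.symm

end GrothLib.EssDim.Desc
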