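import Groth.Prelude.Def_EssDim
import Groth.Prelude.Def_AlgSt5
import Groth.Agent.Lib.EssDim.BaseChange
import Groth.Agent.Lib.EssDim.MorphismDescent
import Groth.Agent.Lib.AffDom.PointDim
import Groth.Agent.Lib.SpQuot.CoarseModuli
import Mathlib.FieldTheory.AlgebraicClosure

/-!
# Essential dimension of a quotient stack

* `exists_quot_descends`: if the torsor under an object of `[X/G]` descends to `K`, the object descends to an
  extension of `K` of transcendence degree at most the dimension of `X`.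
* `edSt_quot_le`: `ed [X/G] ≤ ed BG + dim X`.
-/

set_option backward.isDefEq.respectTransparency false
set_option backward.isDefEq.respectTransparency.types false
set_option autoImplicit false

universe u

open CategoryTheory CategoryTheory.Limits MonoidalCategory CartesianMonoidalCategory AlgebraicGeometry

namespace GrothLib.EssDim

variable {k : Type u} [Field k]

local notation "pt'" => SGA7.pt (K := k)

theorem flat_specMap_field {F L : Type u} [Field F] [Field L] (f : F →+* L) :
    Flat (Spec.map (CommRingCat.ofHom f)) := by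
  letI := f.toAlgebra
  rw [HasRingHomProperty.Spec_iff (P := @Flat)]
  exact (RingHom.flat_algebraMap_iff).2 (inferInstanceAs (Module.Flat F L))

theorem resPt_sq {A B C D : Type u} [Field A] [Field B] [Field C] [Field D] [Algebra k A] [Algebra k B]
    [Algebra k C] [Algebra k D] (a : A →ₐ[k] B) (b : B →ₐ[k] D) (c : A →ₐ[k] C) (d : C →ₐ[k] D)
    (h : ∀ x, b (a x) = d (c x)) :
    _root_.EssDim.resPt b ≫ _root_.EssDim.resPt a = _root_.EssDim.resPt d ≫ _root_.EssDim.resPt c := by
  rw [← _root_.EssDim.resPt_comp, ← _root_.EssDim.resPt_comp]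
  exact congrArg _root_.EssDim.resPt (AlgHom.ext h)

section

variable {G X : Over (Spec (CommRingCat.of k))} [GrpObj G] [IsAffineHom G.hom] [LocallyOfFiniteType G.hom]
  (aX : AlgGrp.Action G X) [LocallyOfFiniteType X.hom]
  [_root_.FibCat.IsFibGrpd (AlgSt.BG Scheme.fppfPrecoverage G).p]

omit [IsAffineHom G.hom] in
/-- A section of a torsor over the algebraic closure of its field of definition. -/
theorem exists_point {K E : Type u} [Field K] [Algebra k K] [Field E] [Algebra k E] [IsAlgClosed E]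
    (i : K →ₐ[k] E) (A : AlgSt.QuotObj Scheme.fppfPrecoverage G (AlgSt.trivAction G)) (hA : A.base = pt' K) :
    ∃ t : pt' E ⟶ A.P, t ≫ A.π = _root_.EssDim.resPt i ≫ eqToHom hA.symm := by
  have g : _root_.FibCat.IsFibGrpd (AlgSt.BG Scheme.fppfPrecoverage G).p := inferInstance
  obtain ⟨B, κ, hκ⟩ := GrothLib.FibCat.IsFibGrpd.exists_lift_of_eq g (x := A) hA (_root_.EssDim.resPt i)
  have hB : B.base = pt' E := IsHomLift.domain_eq (AlgSt.BG Scheme.fppfPrecoverage G).p (_root_.EssDim.resPt i) κ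
  obtain ⟨s, hs⟩ := GrothLib.SpQuot.exists_section (AlgSt.trivAction G)
    ((LocallyOfFinitePresentation.iff_locallyOfFiniteType).2 inferInstance) (Ω := E)
    (t := Spec.map (CommRingCat.ofHom (algebraMap k E))) B hB
  refine ⟨eqToHom hB.symm ≫ s ≫ κ.top, ?_⟩
  have hb : κ.base = eqToHom hB ≫ _root_.EssDim.resPt i ≫ eqToHom hA.symm :=
    IsHomLift.fac' (AlgSt.BG Scheme.fppfPrecoverage G).p (_root_.EssDim.resPt i) κ
  rw [Category.assoc, Category.assoc, κ.cart.w, reassoc_of% hs, hb, eqToHom_trans_assoc, eqToHom_refl,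
    Category.id_comp]

variable {L : Type u} [Field L] [Algebra k L]

/-- If the torsor under an object of `[X/G]` over `L` descends to `K`, the object descends to an extension of
`K` whose transcendence degree over `K` is at most the dimension of `X`. -/
theorem exists_quot_descends (x : AlgSt.QuotObj Scheme.fppfPrecoverage G aX) (hx : x.base = pt' L)
    (K : IntermediateField k L) (y₀ : AlgSt.QuotObj Scheme.fppfPrecoverage G (AlgSt.trivAction G))
    (hy₀ : y₀.base = pt' K) (f : x.P ⟶ y₀.P) (hf_eqv : x.act.act ≫ f = (G ◁ f) ≫ y₀.act.act)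
    (hf : IsPullback f x.π y₀.π (eqToHom hx ≫ _root_.EssDim.resPt K.val ≫ eqToHom hy₀.symm)) :
    ∃ (K' : IntermediateField k L) (d : ℕ) (x₁ : AlgSt.QuotObj Scheme.fppfPrecoverage G aX)
      (hx₁ : x₁.base = pt' K') (ψ : x ⟶ x₁),
      ψ.base = eqToHom hx ≫ _root_.EssDim.resPt K'.val ≫ eqToHom hx₁.symm ∧
      (d : WithBot ℕ∞) ≤ topologicalKrullDim (X.left : Type u) ∧
      Cardinal.toENat (Algebra.trdeg k K') ≤ Cardinal.toENat (Algebra.trdeg k K) + d := by
  obtain ⟨bx, P, actP, π, cart, loc, φ, eqv⟩ := x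
  obtain rfl : bx = pt' L := hx
  obtain ⟨by₀, P₀, act₀, π₀, cart₀, loc₀, φ₀, eqv₀⟩ := y₀
  obtain rfl : by₀ = pt' K := hy₀
  simp only [eqToHom_refl, Category.id_comp, Category.comp_id] at hf
  have gBG : _root_.FibCat.IsFibGrpd (AlgSt.BG Scheme.fppfPrecoverage G).p := inferInstance
  -- fields
  let Ω := AlgebraicClosure L
  let ι : L →ₐ[k] Ω := IsScalarTower.toAlgHom k L Ω
  let Kb := algebraicClosure K Ω
  haveI : IsAlgClosed Kb := IsAlgClosure.isAlgClosed K
  let jb : Kb →ₐ[k] Ω := Kb.val.restrictScalars k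
  let kb : K →ₐ[k] Kb := IsScalarTower.toAlgHom k K Kb
  -- points
  obtain ⟨t₀, ht₀⟩ := exists_point kb ⟨_, P₀, act₀, π₀, cart₀, loc₀, φ₀, eqv₀⟩ rfl
  simp only [eqToHom_refl, Category.comp_id] at ht₀
  have hsq : (_root_.EssDim.resPt jb ≫ t₀) ≫ π₀ = _root_.EssDim.resPt ι ≫ _root_.EssDim.resPt K.val := by
    rw [Category.assoc]
    refine (congrArg (_root_.EssDim.resPt jb ≫ ·) ht₀).trans (resPt_sq kb jb K.val ι fun a => ?_)
    exact (IsScalarTower.algebraMap_apply K L Ω a)
  let tΩ : pt' Ω ⟶ P := hf.lift _ _ hsq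
  let Q : pt' Ω ⟶ X := tΩ ≫ φ
  obtain ⟨⟨ξ, e⟩, he⟩ := (Scheme.SpecToEquivOfField Ω X.left).symm.surjective Q.left
  have he' : Spec.map e ≫ X.left.fromSpecResidueField ξ = Q.left := he
  letI : Algebra k (X.left.residueField ξ) := (GrothLib.AffDom.toRes X.hom ξ).toAlgebra
  have hek : e.hom.comp (GrothLib.AffDom.toRes X.hom ξ) = algebraMap k Ω := by
    refine congrArg CommRingCat.Hom.hom (Spec.map_injective
      (a₁ := CommRingCat.ofHom (e.hom.comp (GrothLib.AffDom.toRes X.hom ξ)))
      (a₂ := CommRingCat.ofHom (algebraMap k Ω)) ?_)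
    rw [CommRingCat.ofHom_comp, CommRingCat.ofHom_hom, Spec.map_comp, GrothLib.AffDom.SpecMap_toRes,
      ← Category.assoc, he']
    exact Over.w Q
  let eA : X.left.residueField ξ →ₐ[k] Ω := { e.hom with commutes' := RingHom.congr_fun hek }
  let A := IntermediateField.adjoin K (eA.fieldRange : Set Ω)
  let M₀ := algebraicClosure A Ω
  let M : IntermediateField k Ω := (M₀.restrictScalars K).restrictScalars k
  let K' : IntermediateField k L := M.comap ι
  have hKM : ∀ a : K, algebraMap K Ω a ∈ M := fun a => (M₀.restrictScalars K).algebraMap_mem a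
  have hKK' : K ≤ K' := fun a ha => by
    change ι a ∈ M
    have : ι a = algebraMap K Ω ⟨a, ha⟩ := (IsScalarTower.algebraMap_apply K L Ω ⟨a, ha⟩).symm
    rw [this]
    exact hKM _
  have hKbM : ∀ z : Kb, (z : Ω) ∈ M := fun z => by
    change (z : Ω) ∈ algebraicClosure A Ω
    exact mem_algebraicClosure_iff.2 ((mem_algebraicClosure_iff.1 z.2).tower_top A)
  have hEM : ∀ z, eA z ∈ M := fun z => by
    change eA z ∈ algebraicClosure A Ω
    exact mem_algebraicClosure_iff.2
      (isAlgebraic_algebraMap (⟨eA z, IntermediateField.subset_adjoin K _ ⟨z, rfl⟩⟩ : A))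
  let jM : Kb →ₐ[k] M := jb.codRestrict M.toSubalgebra hKbM
  let eM : X.left.residueField ξ →ₐ[k] M := eA.codRestrict M.toSubalgebra hEM
  let kM : K' →ₐ[k] M := (ι.comp K'.val).codRestrict M.toSubalgebra fun a => a.2
  -- the torsor over `K'`
  obtain ⟨y₁, κ, hκ⟩ := GrothLib.FibCat.IsFibGrpd.exists_lift_of_eq gBG
    (x := (⟨_, P₀, act₀, π₀, cart₀, loc₀, φ₀, eqv₀⟩ : AlgSt.QuotObj _ _ _)) rfl
    (_root_.EssDim.resPt (IntermediateField.inclusion hKK'))
  obtain ⟨by₁, P₁, act₁, π₁, cart₁, loc₁, φ₁', eqv₁⟩ := y₁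
  obtain rfl : by₁ = pt' K' := IsHomLift.domain_eq (AlgSt.BG Scheme.fppfPrecoverage G).p
    (_root_.EssDim.resPt (IntermediateField.inclusion hKK')) κ
  have hκb : κ.base = _root_.EssDim.resPt (IntermediateField.inclusion hKK') := by
    have := IsHomLift.fac' (AlgSt.BG Scheme.fppfPrecoverage G).p
      (_root_.EssDim.resPt (IntermediateField.inclusion hKK')) κ
    simpa [AlgSt.QuotObj.forget] using this
  let g₁ : P₁ ⟶ P₀ := κ.top
  have hg : IsPullback g₁ π₁ π₀ (_root_.EssDim.resPt (IntermediateField.inclusion hKK')) := hκb ▸ κ.cart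
  have hgeqv : act₁.act ≫ g₁ = (G ◁ g₁) ≫ act₀.act := κ.eqv
  have hKr : _root_.EssDim.resPt K'.val ≫ _root_.EssDim.resPt (IntermediateField.inclusion hKK') =
      _root_.EssDim.resPt K.val := by
    rw [← _root_.EssDim.resPt_comp]
    rfl
  let f' : P ⟶ P₁ := hg.lift f (π ≫ _root_.EssDim.resPt K'.val) (by rw [Category.assoc, hKr]; exact hf.w)
  have hf₁ : f' ≫ g₁ = f := IsPullback.lift_fst ..
  have hf₂ : f' ≫ π₁ = π ≫ _root_.EssDim.resPt K'.val := IsPullback.lift_snd ..
  have hf' : IsPullback f' π π₁ (_root_.EssDim.resPt K'.val) :=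
    IsPullback.of_right (by rw [hf₁, hKr]; exact hf) hf₂ hg
  have hf'eqv : actP.act ≫ f' = (G ◁ f') ≫ act₁.act := by
    refine hg.hom_ext ?_ ?_
    · rw [Category.assoc, hf₁, Category.assoc, hgeqv, ← MonoidalCategory.whiskerLeft_comp_assoc, hf₁]
      exact hf_eqv
    · rw [Category.assoc, hf₂, Category.assoc, cart₁.w, whiskerLeft_snd_assoc, hf₂, ← Category.assoc,
        cart.w, Category.assoc]
  -- the morphism over `M`
  have hsqM : (_root_.EssDim.resPt jM ≫ t₀) ≫ π₀ =
      _root_.EssDim.resPt kM ≫ _root_.EssDim.resPt (IntermediateField.inclusion hKK') := by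
    rw [Category.assoc]
    exact (congrArg (_root_.EssDim.resPt jM ≫ ·) ht₀).trans
      (resPt_sq kb jM (IntermediateField.inclusion hKK') kM fun a => Subtype.ext (IsScalarTower.algebraMap_apply K L Ω a))
  let tM : pt' M ⟶ P₁ := hg.lift _ _ hsqM
  let QM : pt' M ⟶ X := Over.homMk (Spec.map (CommRingCat.ofHom eM.toRingHom) ≫ X.left.fromSpecResidueField ξ) (by
    rw [Category.assoc, ← GrothLib.AffDom.SpecMap_toRes X.hom ξ, ← Spec.map_comp, ← CommRingCat.ofHom_comp]
    exact congrArg (fun t => Spec.map (CommRingCat.ofHom t)) eM.comp_algebraMap)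
  let rM : pt' M ⟶ pt' K' := _root_.EssDim.resPt kM
  let rΩ : pt' Ω ⟶ pt' M := _root_.EssDim.resPt M.val
  have hQM : rΩ ≫ QM = Q := by
    ext : 1
    rw [Over.comp_left, ← he']
    change Spec.map _ ≫ Spec.map _ ≫ _ = _
    rw [← Category.assoc, ← Spec.map_comp, ← CommRingCat.ofHom_comp]
    rfl
  have hrΩ : rΩ ≫ rM = _root_.EssDim.resPt ι ≫ _root_.EssDim.resPt K'.val :=
    resPt_sq kM M.val K'.val ι fun _ => rfl
  have htM : rΩ ≫ tM = tΩ ≫ f' := by
    refine hg.hom_ext ?_ ?_
    · rw [Category.assoc, IsPullback.lift_fst, Category.assoc, hf₁, IsPullback.lift_fst, ← Category.assoc,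
        ← _root_.EssDim.resPt_comp]
      rfl
    · rw [Category.assoc, IsPullback.lift_snd, Category.assoc, hf₂, IsPullback.lift_snd_assoc]
      exact hrΩ
  let PM := pullback π₁ rM
  let hh : PM ⟶ G ⊗ P₁ := cart₁.lift (pullback.fst π₁ rM) (pullback.snd π₁ rM ≫ tM) (by
    rw [Category.assoc, IsPullback.lift_snd]
    exact pullback.condition)
  let φM : PM ⟶ X := lift (hh ≫ fst G P₁) (pullback.snd π₁ rM ≫ QM) ≫ aX.act
  have agree : ∀ (T : Over (Spec (CommRingCat.of k))) (u : T ⟶ P) (v : T ⟶ PM) (w : T ⟶ pt' Ω),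
      u ≫ f' = v ≫ pullback.fst π₁ rM → w ≫ _root_.EssDim.resPt ι = u ≫ π →
      w ≫ rΩ = v ≫ pullback.snd π₁ rM → u ≫ φ = v ≫ φM := by
    intro T u v w e1 e2 e3
    let h' : T ⟶ G ⊗ P := cart.lift u (w ≫ tΩ) (by rw [Category.assoc, IsPullback.lift_snd, e2])
    have hh' : h' ≫ (G ◁ f') = v ≫ hh := by
      refine cart₁.hom_ext ?_ ?_
      · rw [Category.assoc, ← hf'eqv, IsPullback.lift_fst_assoc, e1, Category.assoc, IsPullback.lift_fst]
      · rw [Category.assoc, whiskerLeft_snd, IsPullback.lift_snd_assoc, Category.assoc, Category.assoc,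
          IsPullback.lift_snd, ← htM, reassoc_of% e3]
    have hu : u = h' ≫ actP.act := (IsPullback.lift_fst _ _ _ _).symm
    rw [hu, Category.assoc, eqv]
    simp only [φM, ← Category.assoc]
    congr 1
    apply CartesianMonoidalCategory.hom_ext
    · have := congrArg (· ≫ fst G P₁) hh'
      simp only [Category.assoc, whiskerLeft_fst] at this
      simp only [Category.assoc, whiskerLeft_fst, lift_fst]
      exact this
    · simp only [Category.assoc, whiskerLeft_snd, lift_snd]
      rw [IsPullback.lift_snd_assoc, ← reassoc_of% e3, hQM, Category.assoc]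
  -- descent
  letI : Algebra K' M := kM.toRingHom.toAlgebra
  let d' : M →ₐ[K'] Ω := { M.val.toRingHom with commutes' := fun _ => rfl }
  obtain ⟨φ₁, hφ₁⟩ := Desc.exists_descends_of_agree (F := K') (IsScalarTower.toAlgHom K' L Ω) d'
    (fun l m hlm => ⟨⟨l, show ι l ∈ M by rw [show ι l = M.val m from hlm]; exact m.2⟩, rfl⟩)
    π₁.left (pL := f'.left) (qL := π.left) (hf'.map (Over.forget _))
    (pM := (pullback.fst π₁ rM).left) (qM := (pullback.snd π₁ rM).left)
    ((IsPullback.of_hasPullback π₁ rM).map (Over.forget _)) φ.left φM.left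
    (fun T u v w e1 e2 e3 => by
      let T' : Over (Spec (CommRingCat.of k)) := Over.mk (w ≫ (pt' Ω).hom)
      have huP : u ≫ P.hom = w ≫ (pt' Ω).hom := by
        rw [← Over.w π, ← Category.assoc, ← e2, Category.assoc]
        exact congrArg (w ≫ ·) (Over.w (_root_.EssDim.resPt ι))
      have hvP : v ≫ PM.hom = w ≫ (pt' Ω).hom := by
        rw [← Over.w (pullback.fst π₁ rM), ← Category.assoc, ← e1, Category.assoc, Over.w f', huP]
      have := agree T' (Over.homMk u huP) (Over.homMk v hvP) (Over.homMk w rfl)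
        (Over.OverMorphism.ext e1) (Over.OverMorphism.ext e2) (Over.OverMorphism.ext e3)
      exact congrArg CommaMorphism.left this)
  have hq : ∀ {Y Y' : Over (Spec (CommRingCat.of k))} (p : Y ⟶ Y') (q : Y ⟶ pt' L) (r : Y' ⟶ pt' K'),
      IsPullback p q r (_root_.EssDim.resPt K'.val) → Epi p.left := by
    intro Y Y' p q r hp
    have hl := (hp.map (Over.forget _)).flip
    let a := (_root_.EssDim.resPt K'.val).left
    haveI : Flat a := flat_specMap_field (algebraMap K' L)
    haveI : Surjective a := ⟨fun y => ⟨IsLocalRing.closedPoint L, Subsingleton.elim (α := PrimeSpectrum K') _ _⟩⟩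
    haveI : QuasiCompact a := inferInstanceAs (QuasiCompact (Spec.map _))
    haveI : Flat p.left := MorphismProperty.of_isPullback hl (inferInstanceAs (Flat a))
    haveI : Surjective p.left := MorphismProperty.of_isPullback hl (inferInstanceAs (Surjective a))
    haveI : QuasiCompact p.left := MorphismProperty.of_isPullback hl (inferInstanceAs (QuasiCompact a))
    infer_instance
  haveI := hq f' π π₁ hf'
  let φ₂ : P₁ ⟶ X := Over.homMk φ₁ (by
    rw [← cancel_epi f'.left, ← Category.assoc, hφ₁, Over.w φ, Over.w f'])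
  have hφ₂ : f' ≫ φ₂ = φ := Over.OverMorphism.ext hφ₁
  have heqv : act₁.act ≫ φ₂ = (G ◁ φ₂) ≫ aX.act := by
    haveI := hq (G ◁ f') (snd G P ≫ π) (snd G P₁ ≫ π₁)
      ((AlgSt.isPullback_whiskerLeft f').paste_vert hf')
    haveI : Epi (G ◁ f') := Over.epi_of_epi_left _
    rw [← cancel_epi (G ◁ f'), ← Category.assoc, ← hf'eqv, Category.assoc, hφ₂,
      ← MonoidalCategory.whiskerLeft_comp_assoc, hφ₂]
    exact eqv
  -- the bound
  obtain ⟨d, hd, hd'⟩ := GrothLib.AffDom.exists_dim_closure X.hom ξ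
  refine ⟨K', d, ⟨_, P₁, act₁, π₁, cart₁, loc₁, φ₂, heqv⟩, rfl, ⟨_root_.EssDim.resPt K'.val, f', hf'eqv, hf', hφ₂⟩,
    by simp, ?_, ?_⟩
  · rw [← hd]
    exact (isClosed_closure.isClosedEmbedding_subtypeVal).topologicalKrullDim_le
  · have h1 : Algebra.trdeg k K' ≤ Algebra.trdeg k M := trdeg_le_of_injective kM kM.toRingHom.injective
    have h2 : Algebra.trdeg K M₀ ≤ d := by
      haveI : FaithfulSMul K A := (faithfulSMul_iff_algebraMap_injective _ _).2 (RingHom.injective _)
      haveI : FaithfulSMul A M₀ := (faithfulSMul_iff_algebraMap_injective _ _).2 (RingHom.injective _)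
      rw [← trdeg_add_eq K A (A := M₀), trdeg_eq_zero (R := A) (A := M₀), add_zero]
      refine (trdeg_adjoin_le eA.fieldRange).trans ?_
      exact ((AlgEquiv.ofInjectiveField eA).trdeg_eq.symm.trans hd').le
    refine (OrderHomClass.mono Cardinal.toENat h1).trans ?_
    let MK := M₀.restrictScalars K
    change Cardinal.toENat (Algebra.trdeg k MK) ≤ _
    have h2' : Algebra.trdeg K MK ≤ d := h2
    haveI : FaithfulSMul k K := (faithfulSMul_iff_algebraMap_injective _ _).2 (RingHom.injective _)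
    haveI : FaithfulSMul K MK := (faithfulSMul_iff_algebraMap_injective _ _).2 (RingHom.injective _)
    rw [← trdeg_add_eq k K (A := MK), map_add]
    gcongr
    simpa using OrderHomClass.mono Cardinal.toENat h2'

/-- The essential dimension of a quotient stack. -/
theorem edSt_quot_le [_root_.FibCat.IsFibGrpd (AlgSt.QuotSt Scheme.fppfPrecoverage G aX).p] :
    _root_.EssDim.edSt (AlgSt.QuotSt Scheme.fppfPrecoverage G aX) ≤
      _root_.EssDim.edSt (AlgSt.BG Scheme.fppfPrecoverage G) +
        (topologicalKrullDim (X.left : Type u) : WithBot ℕ∞) := by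
  refine iSup_le fun L => iSup_le fun _ => iSup_le fun _ => iSup_le fun ξ => ?_
  induction ξ using Quot.ind with
  | mk x =>
    obtain ⟨⟨bx, P, actP, π, cart, loc, φ, eqv⟩, hx⟩ := x
    obtain rfl : bx = pt' L := hx
    let y : AlgSt.QuotObj Scheme.fppfPrecoverage G (AlgSt.trivAction G) :=
      ⟨pt' L, P, actP, π, cart, loc, toUnit P, toUnit_unique _ _⟩
    let yc : _root_.EssDim.FPt (Gerb.isoClPsh (AlgSt.BG Scheme.fppfPrecoverage G)) L :=
      Quot.mk (Gerb.IsoRel (AlgSt.BG Scheme.fppfPrecoverage G) (pt' L)) ⟨y, rfl⟩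
    haveI : Nonempty {K : IntermediateField k L //
        _root_.EssDim.Descends (Gerb.isoClPsh (AlgSt.BG Scheme.fppfPrecoverage G)) yc K} :=
      ⟨⟨⊤, _root_.EssDim.descends_top yc⟩⟩
    obtain ⟨⟨K, hK⟩, hmin⟩ := ciInf_mem fun K : {K : IntermediateField k L //
        _root_.EssDim.Descends (Gerb.isoClPsh (AlgSt.BG Scheme.fppfPrecoverage G)) yc K} =>
          Cardinal.toENat (Algebra.trdeg k K.1)
    obtain ⟨⟨y₀, hy₀⟩, f, hf⟩ := (_root_.EssDim.descends_isoCl_iff _ _ K).1 hK
    have hfb : f.base = _root_.EssDim.resPt K.val ≫ eqToHom hy₀.symm := by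
      have := IsHomLift.fac' (AlgSt.BG Scheme.fppfPrecoverage G).p (_root_.EssDim.resPt K.val) f
      simpa [AlgSt.QuotObj.forget] using this
    obtain ⟨K', d, x₁, hx₁, ψ, hψ, hd, htr⟩ := exists_quot_descends aX ⟨pt' L, P, actP, π, cart, loc, φ, eqv⟩ rfl K
      y₀ hy₀ f.top f.eqv (by
        rw [eqToHom_refl, Category.id_comp, ← hfb]
        exact f.cart)
    have hψ' : (AlgSt.QuotSt Scheme.fppfPrecoverage G aX).p.IsHomLift (_root_.EssDim.resPt K'.val) ψ :=
      IsHomLift.of_fac' _ _ _ rfl hx₁ hψ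
    refine (WithBot.coe_le_coe.2 ((_root_.EssDim.edAt_le_of_descends
      ((_root_.EssDim.descends_isoCl_iff _ _ K').2 ⟨⟨x₁, hx₁⟩, ψ, hψ'⟩)).trans htr)).trans ?_
    rw [WithBot.coe_add]
    refine add_le_add (le_trans (le_of_eq ?_) (_root_.EssDim.edAt_le_ed yc)) hd
    exact congrArg _ hmin

end

end GrothLib.EssDim
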